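import Cfsg.Agent.Lib.J3.CentCount
import Cfsg.Agent.Lib.Extraspecial.Setting

/-!
The centraliser of an involution in the third Janko group: an extraspecial group of order 32
extended by a complement isomorphic to the alternating group of degree five.
-/

set_option autoImplicit false
set_option maxRecDepth 4000
set_option linter.unusedSectionVars false
set_option linter.style.haveILetI false
set_option linter.unusedVariables false

open scoped commutatorElement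

namespace CfsgLib.J3

open Cfsg.Spor CfsgLib.Schur.InvTable

variable {F : Type*} [Field F] [CharP F 2] [Fintype F] {ω : F}

attribute [local irreducible] el mmul peq sE sG dcM hE hG idM sMul

theorem q_lt {t : ℕ} (ht : t ∈ qIdx) : t < 128 := by
  have h := qGroupOK_true
  simp only [qGroupOK, Bool.and_eq_true, List.all_eq_true (l := qIdx), decide_eq_true_eq] at h
  exact h.1.1.1.1.2 t ht

theorem q_mul {a b : ℕ} (ha : a ∈ qIdx) (hb : b ∈ qIdx) : sMul a b ∈ qIdx := by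
  have h := qGroupOK_true
  simp only [qGroupOK, Bool.and_eq_true, List.all_eq_true (l := qIdx), List.contains_iff_mem] at h
  exact h.1.1.1.2 a ha b hb

theorem q_inv (hF : Fintype.card F = 4) (hω : ω ^ 2 + ω + 1 = 0) {a : ℕ} (ha : a ∈ qIdx) :
    ∃ b ∈ qIdx, sylTab.phi (gS ω) b = (sylTab.phi (gS ω) a)⁻¹ ∧ sMul b a = 0 := by
  have h := qGroupOK_true
  simp only [qGroupOK, Bool.and_eq_true, List.all_eq_true (l := qIdx), List.any_eq_true (l := qIdx),
    beq_iff_eq] at h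
  obtain ⟨b, hb, e⟩ := h.1.1.2 a ha
  obtain ⟨-, e'⟩ := sMul_spec (F := F) hω (q_lt ha) (q_lt hb)
  rw [e, Tab.phi_zero] at e'
  refine ⟨b, hb, eq_inv_of_mul_eq_one_right e'.symm, ?_⟩
  obtain ⟨l2, e2⟩ := sMul_spec (F := F) hω (q_lt hb) (q_lt ha)
  refine phi_inj hF hω _ _ l2 (by norm_num) ?_
  rw [e2, Tab.phi_zero, eq_inv_of_mul_eq_one_right e'.symm, inv_mul_cancel]

theorem q_zero : (0 : ℕ) ∈ qIdx ∧ (115 : ℕ) ∈ qIdx := by decide

/-- the largest normal 2-subgroup of the centraliser -/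
noncomputable def QJ (hF : Fintype.card F = 4) (hω : ω ^ 2 + ω + 1 = 0) : Subgroup (J3 F ω) where
  carrier := {x | ∃ t ∈ qIdx, x = sylTab.phi (gS ω) t}
  one_mem' := ⟨0, q_zero.1, (Tab.phi_zero _ _).symm⟩
  mul_mem' := by
    rintro _ _ ⟨a, ha, rfl⟩ ⟨b, hb, rfl⟩
    exact ⟨_, q_mul ha hb, (sMul_spec hω (q_lt ha) (q_lt hb)).2.symm⟩
  inv_mem' := by
    rintro _ ⟨a, ha, rfl⟩
    obtain ⟨b, hb, e, -⟩ := q_inv hF hω ha
    exact ⟨b, hb, e.symm⟩

theorem mem_QJ (hF : Fintype.card F = 4) (hω : ω ^ 2 + ω + 1 = 0) {x : J3 F ω} :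
    x ∈ QJ hF hω ↔ ∃ t ∈ qIdx, x = sylTab.phi (gS ω) t := Iff.rfl

theorem QJ_le_SJ (hF : Fintype.card F = 4) (hω : ω ^ 2 + ω + 1 = 0) : QJ hF hω ≤ SJ ω := by
  rintro _ ⟨t, ht, rfl⟩
  exact phi_mem hω (q_lt ht)

theorem zJ_mem_QJ (hF : Fintype.card F = 4) (hω : ω ^ 2 + ω + 1 = 0) : zJ ω ∈ QJ hF hω :=
  ⟨115, q_zero.2, rfl⟩

theorem card_QJ (hF : Fintype.card F = 4) (hω : ω ^ 2 + ω + 1 = 0) : Nat.card (QJ hF hω) = 32 := by
  have h := qGroupOK_true
  simp only [qGroupOK, Bool.and_eq_true, beq_iff_eq, decide_eq_true_eq] at h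
  obtain ⟨hlen, hnd⟩ := h.1.1.1.1.1.1.1
  have hb : Function.Bijective fun k : Fin qIdx.length =>
      (⟨sylTab.phi (gS ω) qIdx[k], qIdx[k], List.getElem_mem _, rfl⟩ : QJ hF hω) := by
    refine ⟨fun a b e => Fin.ext ((List.Nodup.getElem_inj_iff hnd).mp (phi_inj hF hω _ _
      (q_lt (List.getElem_mem _)) (q_lt (List.getElem_mem _)) (congrArg Subtype.val e))), ?_⟩
    rintro ⟨x, t, ht, rfl⟩
    obtain ⟨k, hk, rfl⟩ := List.mem_iff_getElem.mp ht
    exact ⟨⟨k, hk⟩, rfl⟩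
  rw [← Nat.card_congr (Equiv.ofBijective _ hb), Nat.card_fin, hlen]

theorem conj_mem_of_forall {G : Type*} [Group G] [Finite G] {Q : Subgroup G} {g : G}
    (h : ∀ x ∈ Q, g * x * g⁻¹ ∈ Q) : g ∈ Subgroup.normalizer (Q : Set G) :=
  Subgroup.mem_normalizer_fintype fun x hx => h x hx

theorem SJ_le_normalizer (hF : Fintype.card F = 4) (hω : ω ^ 2 + ω + 1 = 0) :
    SJ ω ≤ Subgroup.normalizer (QJ hF hω : Set (J3 F ω)) := by
  haveI := finite_J3 hF hω
  refine (Subgroup.closure_le _).mpr ?_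
  rintro _ ⟨j, hj, rfl⟩
  change j < 3 at hj
  refine conj_mem_of_forall ?_
  rintro _ ⟨t, ht, rfl⟩
  obtain ⟨e, hs⟩ := sIdx_spec (F := F) hω hj
  have h := qGroupOK_true
  simp only [qGroupOK, Bool.and_eq_true, List.all_eq_true (l := qIdx), List.all_eq_true (l := List.range 3),
    List.mem_range, List.contains_iff_mem] at h
  obtain ⟨l1, e1⟩ := sMul_spec (F := F) hω (q_lt ht) hs
  refine ⟨_, h.1.2 j hj t ht, ?_⟩
  rw [(sMul_spec hω hs l1).2, e1, e, inv_eq_of_mul_eq_one_right (gS_sq hω j), mul_assoc]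

theorem cent_QJ_SJ (hF : Fintype.card F = 4) (hω : ω ^ 2 + ω + 1 = 0) {x : J3 F ω} (hx : x ∈ SJ ω)
    (hc : ∀ y ∈ QJ hF hω, x * y = y * x) : x ∈ QJ hF hω := by
  obtain ⟨t, ht, rfl⟩ := (mem_SJ hω).mp hx
  have h := qGroupOK_true
  simp only [qGroupOK, Bool.and_eq_true, List.all_eq_true (l := List.range 128), List.mem_range,
    Bool.or_eq_true, List.any_eq_true, Bool.not_eq_true', List.contains_iff_mem] at h
  rcases h.2 t ht with h' | ⟨u, hu, hne⟩
  · exact ⟨t, h', rfl⟩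
  · rw [(sComm_iff hF hω ht (q_lt hu)).mpr (hc _ ⟨u, hu, rfl⟩)] at hne
    exact Bool.noConfusion hne

/-- generator of the complement -/
noncomputable def gH (ω : F) (j : ℕ) : J3 F ω := el ω (hG j)

/-- the generators on five letters -/
def sH (j : ℕ) : Equiv.Perm (Fin 5) :=
  if j = 0 then Equiv.swap 1 3 * Equiv.swap 2 4
  else if j = 1 then Equiv.swap 0 4 * Equiv.swap 2 3
  else Equiv.swap 0 3 * Equiv.swap 1 4

theorem sH_spec : ∀ j : Fin 3, ∀ i : Fin 5,
    (sH j i).val = hP j i ∧ sH j * sH j = 1 ∧ Equiv.Perm.sign (sH j) = 1 := by decide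

theorem hG_spec (hω : ω ^ 2 + ω + 1 = 0) {j : ℕ} (hj : j < 3) :
    Good ω (hG j) ∧ gH ω j * gH ω j = 1 ∧ gH ω j * zJ ω = zJ ω * gH ω j := by
  have h := hGenOK_true
  simp only [hGenOK, Bool.and_eq_true, List.all_eq_true (l := List.range 3), List.mem_range,
    beq_iff_eq] at h
  obtain ⟨⟨⟨⟨hd, he⟩, hsq⟩, hc⟩, -⟩ := h j hj
  have g : Good ω (hG j) := he ▸ good_dcM (F := F) hω hd
  obtain ⟨gz, ez⟩ := zJ_eq (F := F) hω
  unfold zM at hc
  refine ⟨g, el_mul_self_of_peq hω g hsq, ?_⟩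
  rw [gH, ez, ← el_mul hω g gz, ← el_mul hω gz g]
  exact el_of_peq hω (good_mmul hω g gz) (good_mmul hω gz g) hc

/-- the pairs of an element of the complement and its permutation -/
noncomputable def RH (ω : F) : Subgroup (J3 F ω × Equiv.Perm (Fin 5)) :=
  Subgroup.closure {p | ∃ j, j < 3 ∧ p = (gH ω j, sH j)}

theorem hTree_spec : ∀ t < 59, (hTree.getD t (0, 0)).1 < 3 ∧ (hTree.getD t (0, 0)).2 < t + 1 ∧
    mmul (hG (hTree.getD t (0, 0)).1) (hE (hTree.getD t (0, 0)).2) = hE (t + 1) ∧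
    ∀ i < 5, hI (t + 1) i = hP (hTree.getD t (0, 0)).1 (hI (hTree.getD t (0, 0)).2 i) := by
  have h := hElsOK_true
  simp only [hElsOK, Bool.and_eq_true, List.all_eq_true (l := List.range 59), List.mem_range,
    List.all_eq_true (l := List.range 5), beq_iff_eq, decide_eq_true_eq] at h
  intro t ht
  obtain ⟨⟨⟨h1, h2⟩, h3⟩, h4⟩ := h.1.1.1.2 t ht
  exact ⟨h1, h2, h3, h4⟩

theorem hE_good (hω : ω ^ 2 + ω + 1 = 0) : ∀ t < 60, Good ω (hE t) ∧
    ∃ σ : Equiv.Perm (Fin 5), (el ω (hE t), σ) ∈ RH ω ∧ ∀ i : Fin 5, (σ i).val = hI t i := by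
  have h := hElsOK_true
  simp only [hElsOK, Bool.and_eq_true, List.all_eq_true (l := List.range 5), List.mem_range,
    beq_iff_eq] at h
  obtain ⟨h0, hid⟩ := h.1.1.1.1
  intro t
  induction t using Nat.strong_induction_on with
  | _ t ih =>
    intro ht
    rcases t with _ | t
    · rw [h0, el_idM]
      exact ⟨good_idM, 1, one_mem _, fun i => (hid i i.isLt).symm⟩
    · obtain ⟨hj, hlt, he, hi⟩ := hTree_spec t (by omega)
      obtain ⟨g, σ, hσ, hv⟩ := ih _ hlt (by omega)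
      rw [← he, el_mul hω (hG_spec hω hj).1 g]
      refine ⟨good_mmul hω (hG_spec hω hj).1 g, sH (hTree.getD t (0, 0)).1 * σ,
        mul_mem (show (gH ω _, sH _) ∈ RH ω from Subgroup.subset_closure ⟨_, hj, rfl⟩) hσ, fun i => ?_⟩
      rw [hi i i.isLt, ← hv i, Equiv.Perm.mul_apply]
      exact (sH_spec ⟨_, hj⟩ (σ i)).1

theorem RH_cases (hF : Fintype.card F = 4) (hω : ω ^ 2 + ω + 1 = 0)
    {p : J3 F ω × Equiv.Perm (Fin 5)} (hp : p ∈ RH ω) :
    ∃ t < 60, p.1 = el ω (hE t) ∧ ∀ i : Fin 5, (p.2 i).val = hI t i := by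
  haveI := finite_J3 hF hω
  have h := hElsOK_true
  simp only [hElsOK, Bool.and_eq_true, List.all_eq_true (l := List.range 5),
    List.all_eq_true (l := List.range 3), List.all_eq_true (l := List.range 60), List.mem_range,
    beq_iff_eq, decide_eq_true_eq] at h
  obtain ⟨⟨⟨⟨⟨h0, hid⟩, -⟩, hstep⟩, -⟩, -⟩ := h
  refine finite_closure_mul_induction
    (P := fun p : J3 F ω × Equiv.Perm (Fin 5) => ∃ t < 60, p.1 = el ω (hE t) ∧ ∀ i : Fin 5, (p.2 i).val = hI t i)
    ⟨0, by norm_num, by rw [h0, el_idM]; rfl, fun i => (hid i i.isLt).symm⟩ ?_ hp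
  rintro _ ⟨j, hj, rfl⟩ x ⟨t, ht, e, hv⟩
  obtain ⟨⟨hlt, hp'⟩, hi⟩ := hstep j hj t ht
  refine ⟨_, hlt, ?_, fun i => ?_⟩
  · show gH ω j * x.1 = _
    rw [e, gH, ← el_mul hω (hG_spec hω hj).1 (hE_good hω t ht).1]
    exact el_of_peq hω (good_mmul hω (hG_spec hω hj).1 (hE_good hω t ht).1) (hE_good hω _ hlt).1 hp'
  · show (sH j (x.2 i)).val = _
    rw [(hi i i.isLt).2, ← hv i]
    exact (sH_spec ⟨j, hj⟩ (x.2 i)).1

theorem hE_inj (hF : Fintype.card F = 4) (hω : ω ^ 2 + ω + 1 = 0) {s t : ℕ} (hs : s < 60) (ht : t < 60)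
    (e : el ω (hE s) = el ω (hE t)) : s = t := by
  have h := hElsOK_true
  simp only [hElsOK, Bool.and_eq_true, List.all_eq_true (l := List.range 60), List.mem_range] at h
  obtain ⟨⟨-, hd⟩, -⟩ := h
  simp only [List.all_eq_true, List.mem_range, Bool.not_eq_true'] at hd
  rcases lt_trichotomy s t with h' | h' | h'
  · exact absurd e.symm (el_ne_of_peq hF hω (hE_good hω t ht).1 (hE_good hω s hs).1 (hd t ht s h'))
  · exact h'
  · exact absurd e (el_ne_of_peq hF hω (hE_good hω s hs).1 (hE_good hω t ht).1 (hd s hs t h'))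

theorem hE_zero : hE 0 = idM := by
  have h := hElsOK_true
  simp only [hElsOK, Bool.and_eq_true, beq_iff_eq] at h
  exact h.1.1.1.1.1

/-- the complement -/
noncomputable def HJ (ω : F) : Subgroup (J3 F ω) := (RH ω).map (MonoidHom.fst _ _)

theorem mem_HJ (hF : Fintype.card F = 4) (hω : ω ^ 2 + ω + 1 = 0) {x : J3 F ω} :
    x ∈ HJ ω ↔ ∃ t < 60, x = el ω (hE t) := by
  constructor
  · rintro ⟨p, hp, rfl⟩
    obtain ⟨t, ht, e, -⟩ := RH_cases hF hω hp
    exact ⟨t, ht, e⟩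
  · rintro ⟨t, ht, rfl⟩
    obtain ⟨-, σ, hσ, -⟩ := hE_good (F := F) hω t ht
    exact ⟨_, hσ, rfl⟩

theorem card_HJ (hF : Fintype.card F = 4) (hω : ω ^ 2 + ω + 1 = 0) : Nat.card (HJ ω) = 60 := by
  have hb : Function.Bijective fun t : Fin 60 =>
      (⟨el ω (hE t), (mem_HJ hF hω).mpr ⟨t, t.isLt, rfl⟩⟩ : HJ ω) := by
    refine ⟨fun a b e => Fin.ext (hE_inj hF hω a.isLt b.isLt (congrArg Subtype.val e)), ?_⟩
    rintro ⟨x, hx⟩
    obtain ⟨t, ht, rfl⟩ := (mem_HJ hF hω).mp hx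
    exact ⟨⟨t, ht⟩, rfl⟩
  rw [← Nat.card_congr (Equiv.ofBijective _ hb), Nat.card_fin]

theorem HJ_equiv (hF : Fintype.card F = 4) (hω : ω ^ 2 + ω + 1 = 0) :
    Nonempty (HJ ω ≃* alternatingGroup (Fin 5)) := by
  haveI := finite_J3 hF hω
  let f := (MonoidHom.fst (J3 F ω) (Equiv.Perm (Fin 5))).subgroupMap (RH ω)
  have hf : Function.Bijective f := by
    refine ⟨(injective_iff_map_eq_one f).mpr ?_, MonoidHom.subgroupMap_surjective _ _⟩
    rintro ⟨⟨x, σ⟩, hp⟩ e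
    have hx : x = 1 := congrArg Subtype.val e
    obtain ⟨t, ht, e', hv⟩ := RH_cases hF hω hp
    have ht0 : t = 0 := hE_inj hF hω ht (by norm_num) (by rw [← e', hE_zero, el_idM]; exact hx)
    subst ht0
    have h := hElsOK_true
    simp only [hElsOK, Bool.and_eq_true, List.all_eq_true (l := List.range 5), List.mem_range,
      beq_iff_eq] at h
    refine Subtype.ext (Prod.ext hx (Equiv.ext fun i => Fin.ext ?_))
    exact (hv i).trans (h.1.1.1.1.2 i i.isLt)
  have hg : Function.Injective ((MonoidHom.snd (J3 F ω) (Equiv.Perm (Fin 5))).comp (RH ω).subtype) := by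
    refine (injective_iff_map_eq_one _).mpr ?_
    rintro ⟨⟨x, σ⟩, hp⟩ e
    have hs : σ = 1 := e
    obtain ⟨t, ht, e', hv⟩ := RH_cases hF hω hp
    have h := hElsOK_true
    simp only [hElsOK, Bool.and_eq_true, List.all_eq_true (l := List.range 60), List.mem_range,
      Bool.or_eq_true, List.any_eq_true, Bool.not_eq_true', beq_iff_eq, beq_eq_false_iff_ne] at h
    rcases h.2 t ht with rfl | ⟨i, hi, hne⟩
    · exact Subtype.ext (Prod.ext (by rw [e', hE_zero, el_idM]; rfl) hs)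
    · have := hv ⟨i, hi⟩
      rw [hs] at this
      exact absurd this.symm hne
  have hcard : Nat.card (RH ω) = 60 := by
    rw [Nat.card_congr (Equiv.ofBijective f hf)]
    exact card_HJ hF hω
  set g := (MonoidHom.snd (J3 F ω) (Equiv.Perm (Fin 5))).comp (RH ω).subtype
  have hle : g.range ≤ alternatingGroup (Fin 5) := by
    rintro _ ⟨⟨p, hp⟩, rfl⟩
    show p.2 ∈ alternatingGroup (Fin 5)
    induction hp using Subgroup.closure_induction with
    | mem x hx =>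
      obtain ⟨j, hj, rfl⟩ := hx
      exact Equiv.Perm.mem_alternatingGroup.mpr (sH_spec ⟨j, hj⟩ 0).2.2
    | one => exact one_mem _
    | mul x y _ _ hx hy => exact mul_mem hx hy
    | inv x _ hx => exact inv_mem hx
  have heq : g.range = alternatingGroup (Fin 5) := by
    refine Subgroup.eq_of_le_of_card_ge hle ?_
    rw [nat_card_alternatingGroup, ← Nat.card_congr (MonoidHom.ofInjective hg).toEquiv, hcard,
      Nat.card_fin]
    rfl
  exact ⟨(MulEquiv.ofBijective f hf).symm.trans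
    ((MonoidHom.ofInjective hg).trans (MulEquiv.subgroupCongr heq))⟩

/-- the centraliser of the central involution -/
noncomputable abbrev CJ (ω : F) : Subgroup (J3 F ω) := Subgroup.centralizer {zJ ω}

theorem SJ_le_CJ (hF : Fintype.card F = 4) (hω : ω ^ 2 + ω + 1 = 0) : SJ ω ≤ CJ ω := fun _ hx =>
  Subgroup.mem_centralizer_singleton_iff.mpr (zJ_comm hF hω hx).symm

theorem HJ_le_CJ (hF : Fintype.card F = 4) (hω : ω ^ 2 + ω + 1 = 0) : HJ ω ≤ CJ ω := by
  rintro _ ⟨p, hp, rfl⟩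
  show p.1 ∈ CJ ω
  induction hp using Subgroup.closure_induction with
  | mem x hx =>
    obtain ⟨j, hj, rfl⟩ := hx
    exact Subgroup.mem_centralizer_singleton_iff.mpr (hG_spec hω hj).2.2
  | one => exact one_mem _
  | mul x y _ _ hx hy => exact mul_mem hx hy
  | inv x _ hx => exact inv_mem hx

theorem gH_normalizer (hF : Fintype.card F = 4) (hω : ω ^ 2 + ω + 1 = 0) {j : ℕ} (hj : j < 3) :
    gH ω j ∈ Subgroup.normalizer (QJ hF hω : Set (J3 F ω)) := by
  haveI := finite_J3 hF hω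
  refine conj_mem_of_forall ?_
  rintro _ ⟨t, ht, rfl⟩
  have h := hGenOK_true
  simp only [hGenOK, Bool.and_eq_true, List.all_eq_true (l := List.range 3), List.mem_range,
    List.all_eq_true (l := qIdx), List.any_eq_true] at h
  obtain ⟨u, hu, e⟩ := (h j hj).2 t ht
  obtain ⟨gt, et⟩ := sE_good (F := F) hω t (q_lt ht)
  obtain ⟨gu, eu⟩ := sE_good (F := F) hω u (q_lt hu)
  have g := (hG_spec (F := F) hω hj).1
  refine ⟨u, hu, mul_inv_eq_iff_eq_mul.mpr ?_⟩
  rw [gH, et, eu, ← el_mul hω g gt, ← el_mul hω gu g]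
  exact el_of_peq hω (good_mmul hω g gt) (good_mmul hω gu g) e

theorem HJ_le_normalizer (hF : Fintype.card F = 4) (hω : ω ^ 2 + ω + 1 = 0) :
    HJ ω ≤ Subgroup.normalizer (QJ hF hω : Set (J3 F ω)) := by
  rintro _ ⟨p, hp, rfl⟩
  show p.1 ∈ _
  induction hp using Subgroup.closure_induction with
  | mem x hx => obtain ⟨j, hj, rfl⟩ := hx; exact gH_normalizer hF hω hj
  | one => exact one_mem _
  | mul x y _ _ hx hy => exact mul_mem hx hy
  | inv x _ hx => exact inv_mem hx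

theorem QJ_disjoint_HJ (hF : Fintype.card F = 4) (hω : ω ^ 2 + ω + 1 = 0) {x : J3 F ω}
    (hq : x ∈ QJ hF hω) (hh : x ∈ HJ ω) : x = 1 := by
  obtain ⟨q, hq', rfl⟩ := hq
  obtain ⟨t, ht, e⟩ := (mem_HJ hF hω).mp hh
  have h := hOuterOK_true
  simp only [hOuterOK, List.all_eq_true (l := List.range 60), List.mem_range, Bool.or_eq_true,
    Bool.and_eq_true, beq_iff_eq] at h
  rcases h t ht with rfl | h'
  · rw [e, hE_zero, el_idM]
  · have hne := h'.1
    simp only [List.all_eq_true, Bool.not_eq_true'] at hne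
    obtain ⟨gq, eq'⟩ := sE_good (F := F) hω q (q_lt hq')
    rw [eq'] at e
    exact absurd e.symm (el_ne_of_peq hF hω (hE_good hω t ht).1 gq (hne q hq'))

theorem isComplement (hF : Fintype.card F = 4) (hω : ω ^ 2 + ω + 1 = 0) :
    ((QJ hF hω).subgroupOf (CJ ω)).IsComplement' ((HJ ω).subgroupOf (CJ ω)) := by
  haveI := finite_J3 hF hω
  have hQ : QJ hF hω ≤ CJ ω := (QJ_le_SJ hF hω).trans (SJ_le_CJ hF hω)
  refine Subgroup.isComplement'_of_card_mul_and_disjoint ?_ ?_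
  · rw [Nat.card_congr (Subgroup.subgroupOfEquivOfLe hQ).toEquiv,
      Nat.card_congr (Subgroup.subgroupOfEquivOfLe (HJ_le_CJ hF hω)).toEquiv, card_QJ, card_HJ hF hω,
      CJ, card_cent_zJ hF hω]
  · rw [Subgroup.disjoint_def]
    intro x h1 h2
    exact Subtype.ext (QJ_disjoint_HJ hF hω (Subgroup.mem_subgroupOf.mp h1) (Subgroup.mem_subgroupOf.mp h2))

theorem exists_mul_of_mem_CJ (hF : Fintype.card F = 4) (hω : ω ^ 2 + ω + 1 = 0) {x : J3 F ω}
    (hx : x ∈ CJ ω) : ∃ q ∈ QJ hF hω, ∃ h ∈ HJ ω, x = q * h := by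
  obtain ⟨⟨q, h⟩, e⟩ := (isComplement hF hω).2 ⟨x, hx⟩
  exact ⟨_, q.2, _, h.2, (congrArg Subtype.val e).symm⟩

theorem CJ_le_normalizer (hF : Fintype.card F = 4) (hω : ω ^ 2 + ω + 1 = 0) :
    CJ ω ≤ Subgroup.normalizer (QJ hF hω : Set (J3 F ω)) := by
  intro x hx
  obtain ⟨q, hq, h, hh, rfl⟩ := exists_mul_of_mem_CJ hF hω hx
  exact mul_mem (Subgroup.le_normalizer hq) (HJ_le_normalizer hF hω hh)

/-- the centraliser of the normal subgroup lies in it -/
theorem centralizer_QJ_le (hF : Fintype.card F = 4) (hω : ω ^ 2 + ω + 1 = 0) :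
    Subgroup.centralizer (QJ hF hω : Set (J3 F ω)) ≤ QJ hF hω := by
  intro x hx
  have hc : ∀ y ∈ QJ hF hω, x * y = y * x := fun y hy => (Subgroup.mem_centralizer_iff.mp hx y hy).symm
  have hxC : x ∈ CJ ω := Subgroup.mem_centralizer_singleton_iff.mpr (hc _ (zJ_mem_QJ hF hω))
  obtain ⟨q, hq, h, hh, rfl⟩ := exists_mul_of_mem_CJ hF hω hxC
  obtain ⟨t, ht, rfl⟩ := (mem_HJ hF hω).mp hh
  have ho := hOuterOK_true
  simp only [hOuterOK, List.all_eq_true (l := List.range 60), List.mem_range, Bool.or_eq_true,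
    Bool.and_eq_true, beq_iff_eq] at ho
  rcases ho t ht with rfl | h'
  · rw [hE_zero, el_idM, mul_one]; exact hq
  · exfalso
    obtain ⟨a, ha, rfl⟩ := hq
    obtain ⟨b, hb, eb, hba⟩ := q_inv hF hω ha
    have h2 := h'.2
    simp only [List.all_eq_true (l := qIdx), Bool.or_eq_true, Bool.not_eq_true',
      List.any_eq_true (l := qIdx), beq_eq_false_iff_ne] at h2
    rcases h2 a ha b hb with hne | ⟨u, hu, hne⟩
    · exact hne hba
    · obtain ⟨gu, eu⟩ := sE_good (F := F) hω u (q_lt hu)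
      obtain ⟨l1, e1⟩ := sMul_spec (F := F) hω (q_lt hu) (q_lt ha)
      obtain ⟨l2, e2⟩ := sMul_spec (F := F) hω (q_lt hb) l1
      obtain ⟨gv, ev⟩ := sE_good (F := F) hω _ l2
      have gt := (hE_good (F := F) hω t ht).1
      refine el_ne_of_peq hF hω (good_mmul hω gt gu) (good_mmul hω gv gt) hne ?_
      rw [el_mul hω gt gu, el_mul hω gv gt, ← eu, ← ev, e2, e1, eb]
      have := hc _ ⟨u, hu, rfl⟩
      rw [mul_assoc] at this
      rw [mul_assoc (sylTab.phi (gS ω) a)⁻¹, eq_inv_mul_iff_mul_eq, this, mul_assoc]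

theorem isExtraspecial_QJ (hF : Fintype.card F = 4) (hω : ω ^ 2 + ω + 1 = 0) :
    Cfsg.IsExtraspecial 2 (QJ hF hω) := by
  haveI := Fact.mk Nat.prime_two
  haveI := finite_J3 hF hω
  have h := qExtraOK_true
  simp only [qExtraOK, Bool.and_eq_true, List.all_eq_true (l := qIdx), List.any_eq_true (l := qIdx),
    Bool.or_eq_true, beq_iff_eq, Bool.not_eq_true'] at h
  obtain ⟨⟨a0, ha0, b0, hb0, hne0⟩, hall⟩ := h
  have hcen : ∀ x : QJ hF hω, x ∈ Subgroup.center (QJ hF hω) ↔ (x : J3 F ω) = 1 ∨ (x : J3 F ω) = zJ ω := by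
    intro x
    rw [Subgroup.mem_center_iff]
    constructor
    · intro hx
      obtain ⟨t, ht, e⟩ := x.2
      rcases (hall t ht).1.1.2 with (rfl | rfl) | ⟨u, hu, hne⟩
      · exact Or.inl (e.trans (Tab.phi_zero _ _))
      · exact Or.inr e
      · have := congrArg Subtype.val (hx ⟨_, u, hu, rfl⟩)
        simp only [Subgroup.coe_mul] at this
        rw [e] at this
        rw [(sComm_iff hF hω (q_lt ht) (q_lt hu)).mpr this.symm] at hne
        exact Bool.noConfusion hne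
    · rintro (e | e) y <;> refine Subtype.ext ?_ <;> simp only [Subgroup.coe_mul, e]
      · simp
      · exact (zJ_comm hF hω (QJ_le_SJ hF hω y.2)).symm
  refine CfsgLib.Extraspecial.isExtraspecial_of (IsPGroup.of_card (n := 5) (by rw [card_QJ]; norm_num))
    ?_ (fun x y => ?_) (fun x => ?_) ?_
  · refine Nat.card_eq_two_iff.mpr ⟨1, ⟨⟨zJ ω, zJ_mem_QJ hF hω⟩, (hcen _).mpr (Or.inr rfl)⟩, fun e => ?_, ?_⟩
    · exact zJ_ne_one hF hω (congrArg (fun v : Subgroup.center (QJ hF hω) => ((v : QJ hF hω) : J3 F ω)) e).symm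
    · refine Set.eq_univ_iff_forall.mpr fun v => ?_
      rcases (hcen _).mp v.2 with e | e
      · exact Or.inl (Subtype.ext (Subtype.ext e))
      · exact Or.inr (Subtype.ext (Subtype.ext e))
  · obtain ⟨i, hi, ei⟩ := x.2
    obtain ⟨j, hj, ej⟩ := y.2
    rw [hcen]
    simp only [commutatorElement_def, Subgroup.coe_mul, InvMemClass.coe_inv, ei, ej]
    have e1 := (sMul_spec (F := F) hω (q_lt hi) (q_lt hj)).2
    have e2 := (sMul_spec (F := F) hω (q_lt hj) (q_lt hi)).2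
    rcases (hall i hi).1.2 j hj with e | e
    · left
      rw [e, e2] at e1
      rw [← e1]; group
    · right
      rw [e, (sMul_spec hω (by norm_num) (sMul_spec (F := F) hω (q_lt hj) (q_lt hi)).1).2, e2] at e1
      rw [← e1, zJ]; group
  · obtain ⟨i, hi, ei⟩ := x.2
    rw [hcen, SubmonoidClass.coe_pow, ei, sq, ← (sMul_spec hω (q_lt hi) (q_lt hi)).2]
    rcases (hall i hi).1.1.1 with e | e <;> rw [e]
    · exact Or.inl (Tab.phi_zero _ _)
    · exact Or.inr rfl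
  · refine ⟨⟨_, a0, ha0, rfl⟩, ⟨_, b0, hb0, rfl⟩, fun e => ?_⟩
    have := congrArg Subtype.val (commutatorElement_eq_one_iff_mul_comm.mp e)
    rw [(sComm_iff hF hω (q_lt ha0) (q_lt hb0)).mpr this] at hne0
    exact Bool.noConfusion hne0

theorem card_elementary (hF : Fintype.card F = 4) (hω : ω ^ 2 + ω + 1 = 0)
    (E : Subgroup (J3 F ω)) (hE : E ≤ QJ hF hω) (hsq : ∀ x ∈ E, x * x = 1)
    (hcm : ∀ x ∈ E, ∀ y ∈ E, x * y = y * x) : Nat.card E ≤ 4 := by
  have h := qExtraOK_true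
  simp only [qExtraOK, Bool.and_eq_true, List.all_eq_true (l := qIdx), Bool.or_eq_true, beq_iff_eq,
    Bool.not_eq_true', beq_eq_false_iff_ne, decide_eq_true_eq] at h
  have key : ∃ L : List ℕ, L.length ≤ 4 ∧ ∀ x ∈ E, ∃ t ∈ L, x = sylTab.phi (gS ω) t := by
    by_cases hz : ∀ x ∈ E, x = 1 ∨ x = zJ ω
    · refine ⟨[0, 115], by simp, fun x hx => ?_⟩
      rcases hz x hx with e | e
      · exact ⟨0, by simp, by rw [e, Tab.phi_zero]⟩
      · exact ⟨115, by simp, e⟩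
    · push Not at hz
      obtain ⟨x, hx, hx1, hxz⟩ := hz
      obtain ⟨a, ha, rfl⟩ := hE hx
      have hsq0 : ∀ {b : ℕ}, b ∈ qIdx → sylTab.phi (gS ω) b ∈ E → sMul b b = 0 := fun {b} hb hbE => by
        obtain ⟨l, e⟩ := sMul_spec (F := F) hω (q_lt hb) (q_lt hb)
        exact phi_inj hF hω _ _ l (by norm_num) (by rw [e, hsq _ hbE, Tab.phi_zero])
      rcases (h.2 a ha).2 with ((hne | rfl) | rfl) | hlen
      · exact absurd (hsq0 ha hx) hne
      · exact absurd (Tab.phi_zero _ _) hx1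
      · exact absurd rfl hxz
      · refine ⟨_, hlen, fun y hy => ?_⟩
        obtain ⟨b, hb, rfl⟩ := hE hy
        refine ⟨b, List.mem_filter.mpr ⟨hb, ?_⟩, rfl⟩
        simp only [Bool.and_eq_true, beq_iff_eq]
        exact ⟨hsq0 hb hy, (sComm_iff hF hω (q_lt ha) (q_lt hb)).mpr (hcm _ hx _ hy)⟩
  obtain ⟨L, hL, hcov⟩ := key
  choose f hf hf' using fun x : E => hcov x x.2
  have hinj : Function.Injective fun x : E => (⟨f x, List.mem_toFinset.mpr (hf x)⟩ : L.toFinset) :=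
    fun x y e => Subtype.ext (by
      have hxy : f x = f y := congrArg Subtype.val e
      rw [hf' x, hf' y, hxy])
  refine (Nat.card_le_card_of_injective _ hinj).trans ?_
  rw [Nat.card_eq_finsetCard]
  exact (List.toFinset_card_le L).trans hL

theorem involution_centralizer (hF : Fintype.card F = 4) (hω : ω ^ 2 + ω + 1 = 0) :
    (∀ x y : J3 F ω, orderOf x = 2 → orderOf y = 2 → IsConj x y) ∧
      ∃ t : J3 F ω, orderOf t = 2 ∧
        ∃ (Q : Subgroup ↥(Subgroup.centralizer ({t} : Set (J3 F ω)))) (_ : Q.Normal),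
          Cfsg.IsExtraspecial 2 Q ∧ Nat.card Q = 32 ∧
          (∀ E : Subgroup Q, Cfsg.IsElementaryAbelian 2 E → Nat.card E ≤ 2 ^ 2) ∧
          (∃ H : Subgroup ↥(Subgroup.centralizer ({t} : Set (J3 F ω))), Q.IsComplement' H) ∧
          Nonempty (↥(Subgroup.centralizer ({t} : Set (J3 F ω))) ⧸ Q ≃* ↥(alternatingGroup (Fin 5))) := by
  haveI := Fact.mk Nat.prime_two
  haveI := finite_J3 hF hω
  have hQ : QJ hF hω ≤ CJ ω := (QJ_le_SJ hF hω).trans (SJ_le_CJ hF hω)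
  haveI hn : ((QJ hF hω).subgroupOf (CJ ω)).Normal :=
    (Subgroup.normal_subgroupOf_iff_le_normalizer hQ).mpr (CJ_le_normalizer hF hω)
  refine ⟨fun x y hx hy => (isConj_zJ hF hω hx).trans (isConj_zJ hF hω hy).symm, zJ ω, ?_,
    (QJ hF hω).subgroupOf (CJ ω), hn, ?_, ?_, ?_, ⟨_, isComplement hF hω⟩, ?_⟩
  · refine orderOf_eq_prime ?_ (zJ_ne_one hF hω)
    have hsq : sMul 115 115 = 0 := by decide +kernel
    have e := (sMul_spec (F := F) hω (show (115 : ℕ) < 128 by norm_num) (show (115 : ℕ) < 128 by norm_num)).2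
    rw [hsq, Tab.phi_zero] at e
    rw [sq]; exact e.symm
  · exact CfsgLib.Extraspecial.isExtraspecial_congr (Subgroup.subgroupOfEquivOfLe hQ).symm
      (isExtraspecial_QJ hF hω)
  · exact (Nat.card_congr (Subgroup.subgroupOfEquivOfLe hQ).toEquiv).trans (card_QJ hF hω)
  · rintro E ⟨hab, hexp⟩
    set ι : ↥((QJ hF hω).subgroupOf (CJ ω)) →* J3 F ω :=
      (CJ ω).subtype.comp ((QJ hF hω).subgroupOf (CJ ω)).subtype
    have hι : Function.Injective ι := fun a b e => Subtype.ext (Subtype.ext e)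
    rw [← Subgroup.card_map_of_injective (K := E) hι]
    refine card_elementary hF hω _ ?_ ?_ ?_
    · rintro _ ⟨e, -, rfl⟩
      exact e.2
    · rintro _ ⟨e, he, rfl⟩
      rw [← map_mul, ← sq, hexp e he, map_one]
    · rintro _ ⟨a, ha, rfl⟩ _ ⟨b, hb, rfl⟩
      rw [← map_mul, ← map_mul]
      exact congrArg ι (congrArg Subtype.val (hab.is_comm.comm ⟨a, ha⟩ ⟨b, hb⟩))
  · obtain ⟨e⟩ := HJ_equiv hF hω
    exact ⟨(isComplement hF hω).symm.QuotientMulEquiv.trans
      ((Subgroup.subgroupOfEquivOfLe (HJ_le_CJ hF hω)).trans e)⟩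

end CfsgLib.J3
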