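import Cfsg.Agent.Lib.J3.CentDefs

/-!
Checks for the centraliser of an involution.
-/

set_option autoImplicit false

namespace CfsgLib.J3

theorem hGenOK_true : hGenOK = true := by decide +kernel
theorem hElsOK_true : hElsOK = true := by decide +kernel
theorem hOuterOK_true : hOuterOK = true := by decide +kernel
theorem zFixListOK_true : zFixListOK = true := by decide +kernel
theorem invKOK_true : invKOK = true := by decide +kernel

end CfsgLib.J3
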