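import Cfsg.Agent.Lib.J3.CentDefs

/-!
Scans of half of the orbit and of half of the point stabiliser, from the middle.
-/

set_option autoImplicit false

namespace CfsgLib.J3

theorem zScanB : zScanOK 11628 11628 = true := by decide +kernel
theorem invKScanB : invKScanOK 3240 3240 = true := by decide +kernel

end CfsgLib.J3
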