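import Cfsg.Agent.Lib.J3.Syl
import Cfsg.Agent.Lib.J3.CentCheck
import Cfsg.Agent.Lib.J3.CentScanA
import Cfsg.Agent.Lib.J3.CentScanB

/-!
The order of the centraliser of an involution in the third Janko group, counted on the orbit of
23256 points: such an involution fixes 136 of them and a point stabiliser has 153 involutions.
-/

set_option autoImplicit false
set_option maxRecDepth 4000
set_option linter.unusedSectionVars false
set_option linter.style.haveILetI false

namespace CfsgLib.J3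

open Cfsg.Spor
open scoped Matrix

variable {F : Type*} [Field F] [CharP F 2] [Fintype F] {ω : F}

attribute [local irreducible] el mmul peq kM zM sE dcM app oCode idM

/-- the stabiliser of the first point -/
noncomputable def Kbar (ω : F) : Subgroup (J3 F ω) :=
  ((axisStab F).comap (threeJ3 F ω).subtype).map (QuotientGroup.mk' (Subgroup.center (threeJ3 F ω)))

theorem mem_Kbar (hω : ω ^ 2 + ω + 1 = 0) {q : J3 F ω} :
    q ∈ Kbar ω ↔ ∃ a < 6480, q = el ω (kM a) := by
  constructor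
  · rintro ⟨⟨u, hu⟩, hfix, rfl⟩
    exact exists_kM_of_fix hω hu hfix
  · rintro ⟨a, ha, rfl⟩
    obtain ⟨u, hu, hu'⟩ := kMat_mem (F := F) hω ha
    have hu2 : u ∈ threeJ3 F ω := threeJ3_eq hω ▸ Kgrp_le hu
    exact ⟨⟨u, hu2⟩, Kgrp_le_axisStab hω hu, (el_eq_mk hu2 hu').symm⟩

theorem prop_of_center (hω : ω ^ 2 + ω + 1 = 0) {u v : threeJ3 F ω}
    (h : (QuotientGroup.mk u : J3 F ω) = QuotientGroup.mk v) :
    Prop' (((v : GL F9 F) : Matrix F9 F9 F) *ᵥ e0 F) (((u : GL F9 F) : Matrix F9 F9 F) *ᵥ e0 F) := by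
  rw [QuotientGroup.eq, center_iff hω] at h
  obtain ⟨c, hc⟩ := h
  rw [Subgroup.coe_mul, InvMemClass.coe_inv, Units.val_mul] at hc
  have hv : ((v : GL F9 F) : Matrix F9 F9 F) = c • ((u : GL F9 F) : Matrix F9 F9 F) := by
    have h2 := congrArg (((u : GL F9 F) : Matrix F9 F9 F) * ·) hc
    simp only [← mul_assoc, ← Units.val_mul, mul_inv_cancel, one_mul, Matrix.mul_smul,
      Matrix.mul_one] at h2
    exact h2
  have hc0 : c ≠ 0 := fun e => (v : GL F9 F).ne_zero (by rw [hv, e, zero_smul])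
  exact ⟨c, hc0, by rw [hv, Matrix.smul_mulVec]⟩

theorem exists_pt (hω : ω ^ 2 + ω + 1 = 0) (q : J3 F ω) :
    ∃ n : Fin orbN, ∀ u : threeJ3 F ω, (QuotientGroup.mk u : J3 F ω) = q →
      Prop' (((u : GL F9 F) : Matrix F9 F9 F) *ᵥ e0 F) (oVec ω n) := by
  obtain ⟨⟨v, hv⟩, rfl⟩ := QuotientGroup.mk'_surjective _ q
  obtain ⟨m, hm, e⟩ := Ggrp_oVec hω (show v ∈ Ggrp ω from threeJ3_eq hω ▸ hv) 0 (by norm_num [orbN])
  rw [oVec_zero] at e
  exact ⟨⟨m, hm⟩, fun u hu => ((prop_of_center hω hu.symm).trans e)⟩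

/-- the point of an element: the image of the first point -/
noncomputable def pt (hω : ω ^ 2 + ω + 1 = 0) (q : J3 F ω) : Fin orbN := (exists_pt hω q).choose

theorem pt_spec (hω : ω ^ 2 + ω + 1 = 0) (u : threeJ3 F ω) :
    Prop' (((u : GL F9 F) : Matrix F9 F9 F) *ᵥ e0 F) (oVec ω (pt hω (QuotientGroup.mk u))) :=
  (exists_pt hω _).choose_spec u rfl

theorem pt_eq_of_prop (hω : ω ^ 2 + ω + 1 = 0) (u : threeJ3 F ω) {n : Fin orbN}
    (h : Prop' (((u : GL F9 F) : Matrix F9 F9 F) *ᵥ e0 F) (oVec ω n)) :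
    pt hω (QuotientGroup.mk u) = n :=
  Fin.ext (oVec_inj hω (pt hω _).isLt n.isLt ((pt_spec hω u).symm.trans h))

theorem pt_surjective (hω : ω ^ 2 + ω + 1 = 0) : Function.Surjective (pt (F := F) hω) := by
  intro n
  obtain ⟨u, hu, e⟩ := oVec_reach (F := F) hω n n.isLt
  exact ⟨_, pt_eq_of_prop hω ⟨u, threeJ3_eq hω ▸ hu⟩ e⟩

theorem pt_eq_iff (hω : ω ^ 2 + ω + 1 = 0) (p q : J3 F ω) :
    pt hω p = pt hω q ↔ p⁻¹ * q ∈ Kbar ω := by
  obtain ⟨u, rfl⟩ := QuotientGroup.mk'_surjective _ p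
  obtain ⟨v, rfl⟩ := QuotientGroup.mk'_surjective _ q
  constructor
  · intro e
    refine ⟨u⁻¹ * v, ?_, by rw [map_mul, map_inv]⟩
    have h1 := pt_spec hω u
    have h2 := pt_spec hω v
    simp only [QuotientGroup.mk'_apply] at e
    rw [e] at h1
    have h := (h2.trans h1.symm).mulVec (((u : GL F9 F)⁻¹ : GL F9 F) : Matrix F9 F9 F)
    rw [Matrix.mulVec_mulVec, Matrix.mulVec_mulVec, ← Units.val_mul, ← Units.val_mul, inv_mul_cancel,
      Units.val_one, Matrix.one_mulVec] at h
    exact h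
  · rintro ⟨w, hw, e⟩
    have e' : (QuotientGroup.mk (u * w) : J3 F ω) = QuotientGroup.mk' _ v := by
      rw [← QuotientGroup.mk'_apply, map_mul, e, mul_inv_cancel_left]
    rw [← e']
    refine (pt_eq_of_prop hω (u * w) ?_).symm
    rw [Subgroup.coe_mul, Units.val_mul, ← Matrix.mulVec_mulVec]
    exact (Prop'.mulVec hw _).trans (pt_spec hω u)

theorem normV_idem (hω : ω ^ 2 + ω + 1 = 0) {n : ℕ} (hn : n < 262144) :
    normV (normV n) = normV n := by
  obtain ⟨d, hd, ed⟩ := normV_smul hω n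
  exact normV_eq hω (normFrom_lt 9 0 _ hn) hn hd ed

theorem pt_zM_iff (hω : ω ^ 2 + ω + 1 = 0) (q : J3 F ω) :
    pt hω (zJ ω * q) = pt hω q ↔ normV (app zM (oCode (pt hω q))) = oCode (pt hω q) := by
  obtain ⟨v, rfl⟩ := QuotientGroup.mk'_surjective _ q
  obtain ⟨gz, ez⟩ := zJ_eq (F := F) hω
  obtain ⟨u, hu, hu'⟩ := gz.mem
  have hez : zJ ω = QuotientGroup.mk ⟨u, hu⟩ := ez.trans (el_eq_mk hu hu')
  rw [hez, QuotientGroup.mk'_apply, ← QuotientGroup.mk_mul]
  set n := pt hω (QuotientGroup.mk v)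
  have hz : HasMat ω zM u := by unfold zM; exact hu'
  have hlen : zM.length = 9 := by unfold zM; exact gz.len
  have hb : ∀ c ∈ zM, c < 262144 := by unfold zM; exact gz.bnd
  have h1 : Prop' ((((⟨u, hu⟩ * v : threeJ3 F ω) : GL F9 F) : Matrix F9 F9 F) *ᵥ e0 F)
      (toVec ω (normV (app zM (oCode n)))) := by
    rw [Subgroup.coe_mul, Units.val_mul, ← Matrix.mulVec_mulVec]
    exact ((pt_spec hω v).mulVec _).trans (hasMat_app hω hlen hz _)
  constructor
  · intro e
    have h2 := pt_spec hω (⟨u, hu⟩ * v)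
    rw [e] at h2
    obtain ⟨c, hc, ec⟩ := h1.symm.trans h2
    have hlt := app_lt hb (oCode n)
    have := normV_eq hω (show normV (app zM (oCode n)) < 262144 from normFrom_lt 9 0 _ hlt) (oCode_lt n) hc ec
    rwa [normV_idem hω hlt, oCode_normal hω n.isLt] at this
  · intro e
    refine pt_eq_of_prop hω _ ?_
    rw [e] at h1
    exact h1

theorem zFixed_iff {n : ℕ} (hn : n < orbN) :
    normV (app zM (oCode n)) = oCode n ↔ n ∈ zFix := by
  constructor
  · intro e
    have key : ∀ lo, zScanOK lo 11628 = true → lo ≤ n → n < lo + 11628 → n ∈ zFix := by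
      intro lo h hl hl'
      simp only [zScanOK, List.all_eq_true, List.mem_range'_1, Bool.or_eq_true, Bool.not_eq_true',
        beq_eq_false_iff_ne, List.contains_iff_mem] at h
      exact (h n ⟨hl, hl'⟩).resolve_left (fun h' => h' e)
    rcases Nat.lt_or_ge n 11628 with h | h
    · exact key 0 zScanA (Nat.zero_le _) (by omega)
    · exact key 11628 zScanB h (by simp only [orbN] at hn; omega)
  · intro h
    have hz := zFixListOK_true
    simp only [zFixListOK, Bool.and_eq_true, List.all_eq_true, beq_iff_eq] at hz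
    exact (hz.2 n h).2

theorem invK_spec (hω : ω ^ 2 + ω + 1 = 0) (i : Fin 153) :
    (invK.getD i (0, 0)).1 < 6480 ∧ Good ω (dcM (invK.getD i (0, 0)).2) ∧
      el ω (dcM (invK.getD i (0, 0)).2) * el ω (kM (invK.getD i (0, 0)).1) =
        zJ ω * el ω (dcM (invK.getD i (0, 0)).2) := by
  have h := invKOK_true
  simp only [invKOK, Bool.and_eq_true, List.all_eq_true (l := invK), beq_iff_eq, decide_eq_true_eq] at h
  obtain ⟨⟨hlen, hall⟩, -⟩ := h
  have hm : invK.getD i (0, 0) ∈ invK := by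
    rw [List.getD_eq_getElem _ _ (by rw [hlen]; exact i.isLt)]; exact List.getElem_mem _
  obtain ⟨⟨ha, hd⟩, he⟩ := hall _ hm
  obtain ⟨gz, ez⟩ := zJ_eq (F := F) hω
  have gd := good_dcM (F := F) hω hd
  have gk := good_kM (F := F) hω ha
  refine ⟨ha, gd, ?_⟩
  rw [ez, ← el_mul hω gd gk, ← el_mul hω gz gd]
  refine el_of_peq hω (good_mmul hω gd gk) (good_mmul hω gz gd) ?_
  unfold zM at he
  exact he

theorem invK_scan {a : ℕ} (ha : a < 6480) (h2 : peq (mmul (kM a) (kM a)) idM = true)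
    (h1 : peq (kM a) idM = false) :
    ∃ i : Fin 153, peq (kM a) (kM (invK.getD i (0, 0)).1) = true := by
  have key : ∀ lo, invKScanOK lo 3240 = true → lo ≤ a → a < lo + 3240 →
      ∃ p ∈ invK, peq (kM a) (kM p.1) = true := by
    intro lo h hl hl'
    simp only [invKScanOK, List.all_eq_true, List.mem_range'_1, Bool.or_eq_true, Bool.not_eq_true',
      List.any_eq_true] at h
    rcases h a ⟨hl, hl'⟩ with (h | h) | h
    · rw [h2] at h; exact Bool.noConfusion h
    · rw [h1] at h; exact Bool.noConfusion h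
    · exact h
  obtain ⟨p, hp, e⟩ : ∃ p ∈ invK, peq (kM a) (kM p.1) = true := by
    rcases Nat.lt_or_ge a 3240 with h | h
    · exact key 0 invKScanA (Nat.zero_le _) (by omega)
    · exact key 3240 invKScanB h (by omega)
  obtain ⟨i, hi, rfl⟩ := List.mem_iff_getElem.mp hp
  have hlen : invK.length = 153 := by
    have h := invKOK_true
    simp only [invKOK, Bool.and_eq_true, beq_iff_eq] at h
    exact h.1.1
  exact ⟨⟨i, hlen ▸ hi⟩, by rw [List.getD_eq_getElem _ _ hi]; exact e⟩

theorem card_cent_zJ (hF : Fintype.card F = 4) (hω : ω ^ 2 + ω + 1 = 0) :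
    Nat.card (Subgroup.centralizer ({zJ ω} : Set (J3 F ω))) = 1920 := by
  haveI := finite_J3 hF hω
  choose g hg using pt_surjective (F := F) hω
  let Ψ : Fin orbN × Kbar ω ≃ J3 F ω := Equiv.ofBijective (fun p => g p.1 * p.2.1) <| by
    constructor
    · rintro ⟨m, k⟩ ⟨n, l⟩ e
      simp only at e
      have hmn : m = n := by
        rw [← hg m, ← hg n, pt_eq_iff]
        have : (g m)⁻¹ * g n = k.1 * l.1⁻¹ := by
          rw [eq_mul_inv_iff_mul_eq, mul_assoc, ← e, inv_mul_cancel_left]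
        rw [this]
        exact mul_mem k.2 (inv_mem l.2)
      subst hmn
      rw [mul_right_inj] at e
      rw [Subtype.ext e]
    · intro q
      exact ⟨⟨pt hω q, ⟨(g (pt hω q))⁻¹ * q, (pt_eq_iff hω _ _).mp (hg _)⟩⟩, mul_inv_cancel_left _ _⟩
  have hK : Nat.card (Kbar ω) = 2160 := by
    have h := Nat.card_congr Ψ
    rw [Nat.card_prod, Nat.card_fin, card_J3 hF hω, orbN] at h
    omega
  let X := {q : J3 F ω // q⁻¹ * (zJ ω * q) ∈ Kbar ω}
  have hX1 : Nat.card X = 136 * 2160 := by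
    have hfix : ∀ p : Fin orbN × Kbar ω, (p.1.val ∈ zFix ∧ True) ↔
        (Ψ p)⁻¹ * (zJ ω * Ψ p) ∈ Kbar ω := by
      intro p
      have hp : pt hω (Ψ p) = p.1 := by
        conv_rhs => rw [← hg p.1]
        refine ((pt_eq_iff hω _ _).mpr ?_).symm
        show (g p.1)⁻¹ * (g p.1 * p.2.1) ∈ Kbar ω
        rw [inv_mul_cancel_left]
        exact p.2.2
      rw [and_true, ← pt_eq_iff hω, eq_comm, pt_zM_iff hω, hp, zFixed_iff p.1.isLt]
    let e1 : ({n : Fin orbN // n.val ∈ zFix} × Kbar ω) ≃ X :=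
      (Equiv.prodSubtypeFstEquivSubtypeProd (p := fun n : Fin orbN => n.val ∈ zFix)).symm.trans
        (Ψ.subtypeEquiv fun p => (iff_of_eq (and_true (p.1.val ∈ zFix))).symm.trans (hfix p))
    rw [← Nat.card_congr e1, Nat.card_prod, hK]
    congr 1
    have hz := zFixListOK_true
    simp only [zFixListOK, Bool.and_eq_true, List.all_eq_true, beq_iff_eq, decide_eq_true_eq] at hz
    obtain ⟨⟨hlen, hnd⟩, hmem⟩ := hz
    rw [← hlen, ← List.toFinset_card_of_nodup hnd, ← Nat.card_eq_finsetCard]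
    exact Nat.card_congr
      { toFun := fun n => ⟨n.1.val, List.mem_toFinset.mpr n.2⟩
        invFun := fun n => ⟨⟨n.1, (hmem _ (List.mem_toFinset.mp n.2)).1⟩, List.mem_toFinset.mp n.2⟩
        left_inv := fun n => rfl
        right_inv := fun n => rfl }
  set f := fun i : Fin 153 => el ω (dcM (invK.getD i (0, 0)).2)
  set k := fun i : Fin 153 => el ω (kM (invK.getD i (0, 0)).1)
  have hfk : ∀ i, (f i)⁻¹ * (zJ ω * f i) = k i := fun i => by
    rw [inv_mul_eq_iff_eq_mul]; exact (invK_spec hω i).2.2.symm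
  have hconj : ∀ (i : Fin 153) (c : Subgroup.centralizer ({zJ ω} : Set (J3 F ω))),
      (c.1 * f i)⁻¹ * (zJ ω * (c.1 * f i)) = k i := fun i c => by
    have hc := Subgroup.mem_centralizer_singleton_iff.mp c.2
    rw [← mul_assoc (zJ ω), ← hc, mul_assoc, mul_inv_rev, mul_assoc, inv_mul_cancel_left, hfk]
  let Φ : Fin 153 × Subgroup.centralizer ({zJ ω} : Set (J3 F ω)) → X := fun p =>
    ⟨p.2.1 * f p.1, by
      rw [hconj p.1 p.2]
      exact (mem_Kbar hω).mpr ⟨_, (invK_spec (F := F) hω p.1).1, rfl⟩⟩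
  have hΦ : Function.Bijective Φ := by
    constructor
    · rintro ⟨i, c⟩ ⟨j, d⟩ e
      have e1 : c.1 * f i = d.1 * f j := congrArg Subtype.val e
      have hk : k i = k j := by rw [← hconj i c, ← hconj j d, e1]
      have hij : i = j := by
        have h := invKOK_true
        simp only [invKOK, Bool.and_eq_true, List.all_eq_true (l := List.range 153), List.mem_range] at h
        obtain ⟨-, hd⟩ := h
        simp only [List.all_eq_true, List.mem_range, Bool.not_eq_true'] at hd
        have gi := good_kM (F := F) hω (invK_spec (F := F) hω i).1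
        have gj := good_kM (F := F) hω (invK_spec (F := F) hω j).1
        rcases lt_trichotomy i.val j.val with h' | h' | h'
        · exact absurd hk.symm (el_ne_of_peq hF hω gj gi (hd j j.isLt i h'))
        · exact Fin.ext h'
        · exact absurd hk (el_ne_of_peq hF hω gi gj (hd i i.isLt j h'))
      subst hij
      rw [mul_left_inj] at e1
      rw [Subtype.ext e1]
    · rintro ⟨q, hq⟩
      obtain ⟨a, ha, ea⟩ := (mem_Kbar hω).mp hq
      have gk := good_kM (F := F) hω ha
      obtain ⟨gz, ez⟩ := zJ_eq (F := F) hω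
      have hz2 : zJ ω * zJ ω = 1 := by
        have hsq : sMul 115 115 = 0 := by decide +kernel
        obtain ⟨-, e⟩ := sMul_spec (F := F) hω (show (115 : ℕ) < 128 by norm_num)
          (show (115 : ℕ) < 128 by norm_num)
        rw [hsq, Schur.InvTable.Tab.phi_zero] at e
        exact e.symm
      have h2 : peq (mmul (kM a) (kM a)) idM = true := by
        rw [← peq_iff hF hω (good_mmul hω gk gk) good_idM, el_mul hω gk gk, el_idM, ← ea,
          show q⁻¹ * (zJ ω * q) * (q⁻¹ * (zJ ω * q)) = q⁻¹ * (zJ ω * zJ ω) * q by group, hz2]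
        group
      have h1 : peq (kM a) idM = false := by
        rw [Bool.eq_false_iff]
        intro h
        have := el_of_peq (F := F) hω gk good_idM h
        rw [el_idM, ← ea, inv_mul_eq_one] at this
        exact zJ_ne_one hF hω (mul_eq_right.mp this.symm)
      obtain ⟨i, hi⟩ := invK_scan ha h2 h1
      have hki : q⁻¹ * (zJ ω * q) = k i := by
        rw [ea]; exact el_of_peq hω gk (good_kM hω (invK_spec (F := F) hω i).1) hi
      refine ⟨⟨i, ⟨q * (f i)⁻¹, Subgroup.mem_centralizer_singleton_iff.mpr ?_⟩⟩,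
        Subtype.ext (inv_mul_cancel_right _ _)⟩
      calc q * (f i)⁻¹ * zJ ω = q * ((f i)⁻¹ * (zJ ω * f i)) * (f i)⁻¹ := by group
        _ = zJ ω * (q * (f i)⁻¹) := by rw [hfk, ← hki]; group
  have h := Nat.card_congr (Equiv.ofBijective Φ hΦ)
  rw [hX1, Nat.card_prod, Nat.card_fin] at h
  omega

end CfsgLib.J3
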