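import Cfsg.Agent.Lib.J3.SylDefs
import Cfsg.Agent.Lib.J3.OrbitDefs

/-!
Finite statements for the centraliser of an involution in the third Janko group.
-/

set_option autoImplicit false

namespace CfsgLib.J3

/-- the central involution -/
def zM : List ℕ := sE 115

/-- generator of the complement -/
def hG (j : ℕ) : List ℕ := hGen.getD j idM

/-- element of the complement -/
def hE (t : ℕ) : List ℕ := hEls.getD t idM

/-- image of a letter -/
def hI (t i : ℕ) : ℕ := (hImg.getD t []).getD i 0

/-- product with a generator -/
def hSt (j t : ℕ) : ℕ := (hStep.getD j []).getD t 0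

/-- the generators on five letters -/
def hP (j i : ℕ) : ℕ :=
  (([[0, 3, 4, 1, 2], [4, 1, 3, 2, 0], [3, 4, 2, 0, 1]] : List (List ℕ)).getD j []).getD i 0

/-- the generators -/
def hGenOK : Bool :=
  (List.range 3).all fun j =>
    dcLt (hGenDec.getD j 0) && dcM (hGenDec.getD j 0) == hG j &&
      peq (mmul (hG j) (hG j)) idM && peq (mmul (hG j) zM) (mmul zM (hG j)) &&
      qIdx.all fun q => qIdx.any fun q' => peq (mmul (hG j) (sE q)) (mmul (sE q') (hG j))

/-- the elements of the complement -/
def hElsOK : Bool :=
  hE 0 == idM && (List.range 5).all (fun i => hI 0 i == i) &&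
  ((List.range 59).all fun t =>
    let p := hTree.getD t (0, 0)
    decide (p.1 < 3) && decide (p.2 < t + 1) && mmul (hG p.1) (hE p.2) == hE (t + 1) &&
      (List.range 5).all fun i => hI (t + 1) i == hP p.1 (hI p.2 i)) &&
  ((List.range 3).all fun j => (List.range 60).all fun t =>
    decide (hSt j t < 60) && peq (mmul (hG j) (hE t)) (hE (hSt j t)) &&
      (List.range 5).all fun i => decide (hI t i < 5) && hI (hSt j t) i == hP j (hI t i)) &&
  ((List.range 60).all fun t => (List.range t).all fun s => !peq (hE t) (hE s)) &&
  (List.range 60).all fun t => t == 0 || (List.range 5).any fun i => !(hI t i == i)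

/-- the complement meets the normal subgroup trivially and acts by outer automorphisms on it -/
def hOuterOK : Bool :=
  (List.range 60).all fun t => t == 0 ||
    ((qIdx.all fun q => !peq (hE t) (sE q)) &&
      qIdx.all fun q => qIdx.all fun qi => !(sMul qi q == 0) ||
        qIdx.any fun u => !peq (mmul (hE t) (sE u)) (mmul (sE (sMul qi (sMul u q))) (hE t)))

/-- the fixed points -/
def zFixListOK : Bool :=
  zFix.length == 136 && decide zFix.Nodup &&
  zFix.all fun n => decide (n < orbN) && normV (app zM (oCode n)) == oCode n

/-- no other fixed points -/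
def zScanOK (lo n : ℕ) : Bool :=
  (List.range' lo n).all fun i => !(normV (app zM (oCode i)) == oCode i) || zFix.contains i

/-- the listed involutions of the point stabiliser -/
def invKOK : Bool :=
  invK.length == 153 &&
  (invK.all fun p => decide (p.1 < 6480) && dcLt p.2 &&
    peq (mmul (dcM p.2) (kM p.1)) (mmul zM (dcM p.2))) &&
  (List.range 153).all fun i => (List.range i).all fun j =>
    !peq (kM (invK.getD i (0, 0)).1) (kM (invK.getD j (0, 0)).1)

/-- there are no others -/
def invKScanOK (lo n : ℕ) : Bool :=
  (List.range' lo n).all fun a =>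
    let k := kM a
    !peq (mmul k k) idM || peq k idM || invK.any fun p => peq k (kM p.1)

end CfsgLib.J3
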