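import Cfsg.Prelude.Def_FusionComponents
import Cfsg.Agent.Lib.Fusion.SimpleModel
import Cfsg.Agent.Lib.J3.Cent
import Cfsg.Agent.Lib.J3.Field

/-!
The 2-fusion system of the third Janko group is simple.
-/

set_option autoImplicit false
set_option maxRecDepth 4000
set_option linter.unusedSectionVars false
set_option linter.style.haveILetI false

namespace CfsgLib.J3

open Cfsg.Spor CfsgLib.Schur.InvTable CfsgLib.Fusion

variable {F : Type*} [Field F] [CharP F 2] [Fintype F] {ω : F}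

attribute [local irreducible] el mmul peq sE sG dcM hE hG idM sMul

theorem gS_order (hF : Fintype.card F = 4) (hω : ω ^ 2 + ω + 1 = 0) {j : ℕ} (hj : j < 3) :
    orderOf (gS ω j) = 2 := by
  haveI := Fact.mk Nat.prime_two
  refine orderOf_eq_prime (by rw [sq]; exact gS_sq hω j) fun e => ?_
  obtain ⟨e', hlt⟩ := sIdx_spec (F := F) hω hj
  rw [e, ← Tab.phi_zero sylTab (gS ω)] at e'
  have h0 := phi_inj hF hω _ _ hlt (by norm_num) e'
  have key : ∀ i : Fin 3, sIdx i ≠ 0 := by decide +kernel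
  exact key ⟨j, hj⟩ h0

theorem SJ_isPGroup (hF : Fintype.card F = 4) (hω : ω ^ 2 + ω + 1 = 0) : IsPGroup 2 (SJ ω) :=
  IsPGroup.of_card (n := 7) (by rw [card_SJ hF hω]; norm_num)

/-- a strongly closed subgroup is trivial or everything -/
theorem closed_cases (hF : Fintype.card F = 4) (hω : ω ^ 2 + ω + 1 = 0) (T : Subgroup (J3 F ω))
    (hTS : T ≤ SJ ω) (hT : ∀ g : J3 F ω, ∀ x ∈ T, g * x * g⁻¹ ∈ SJ ω → g * x * g⁻¹ ∈ T) :
    T = ⊥ ∨ T = SJ ω := by
  haveI := Fact.mk Nat.prime_two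
  haveI := finite_J3 hF hω
  refine or_iff_not_imp_left.mpr fun hne => le_antisymm hTS ((Subgroup.closure_le _).mpr ?_)
  have hT2 : IsPGroup 2 T := (SJ_isPGroup hF hω).to_le hTS
  haveI : Nontrivial T := (Subgroup.nontrivial_iff_ne_bot T).mpr hne
  obtain ⟨n, hn⟩ := IsPGroup.iff_card.mp hT2
  have h1 : 1 < Nat.card T := Finite.one_lt_card
  have h2 : 2 ∣ Nat.card T := by
    rcases n with _ | n
    · rw [hn] at h1; omega
    · exact hn ▸ dvd_pow_self 2 n.succ_ne_zero
  obtain ⟨⟨x, hx⟩, hord⟩ := exists_prime_orderOf_dvd_card' 2 h2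
  rw [Subgroup.orderOf_mk] at hord
  rintro _ ⟨j, hj, rfl⟩
  obtain ⟨g, hg⟩ := isConj_iff.mp
    ((isConj_zJ hF hω hord).trans (isConj_zJ hF hω (gS_order hF hω hj)).symm)
  have := hT g x hx (by rw [hg]; exact gS_mem hj)
  rwa [hg] at this

theorem normalizer_le_CJ (hF : Fintype.card F = 4) (hω : ω ^ 2 + ω + 1 = 0) :
    Subgroup.normalizer (SJ ω : Set (J3 F ω)) ≤ CJ ω := by
  intro n hn
  have hm : n * zJ ω * n⁻¹ ∈ SJ ω := (Subgroup.mem_normalizer_iff.mp hn _).mp (zJ_mem hω)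
  have hc : ∀ j < 3, n * zJ ω * n⁻¹ * gS ω j = gS ω j * (n * zJ ω * n⁻¹) := fun j hj => by
    have hs : n⁻¹ * gS ω j * n ∈ SJ ω := (Subgroup.mem_normalizer_iff''.mp hn _).mp (gS_mem hj)
    calc n * zJ ω * n⁻¹ * gS ω j = n * (zJ ω * (n⁻¹ * gS ω j * n)) * n⁻¹ := by group
      _ = gS ω j * (n * zJ ω * n⁻¹) := by rw [zJ_comm hF hω hs]; group
  rcases center_cases hF hω hm hc with h | h
  · exact absurd (conj_eq_one_iff.mp h) (zJ_ne_one hF hω)
  · exact Subgroup.mem_centralizer_singleton_iff.mpr (mul_inv_eq_iff_eq_mul.mp h)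

theorem CJ_le_closure (hF : Fintype.card F = 4) (hω : ω ^ 2 + ω + 1 = 0) :
    CJ ω ≤ Subgroup.closure {g : J3 F ω |
      g ∈ Subgroup.normalizer (QJ hF hω : Set (J3 F ω)) ∧ ∃ k : ℕ, orderOf g = 2 ^ k} := by
  haveI := Fact.mk Nat.prime_two
  intro x hx
  obtain ⟨q, hq, h, hh, rfl⟩ := exists_mul_of_mem_CJ hF hω hx
  refine mul_mem (Subgroup.subset_closure ⟨Subgroup.le_normalizer hq, ?_⟩) ?_
  · obtain ⟨k, hk⟩ := IsPGroup.iff_orderOf.mp (SJ_isPGroup hF hω) ⟨q, QJ_le_SJ hF hω hq⟩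
    exact ⟨k, by rw [← hk, Subgroup.orderOf_mk]⟩
  · clear hx
    obtain ⟨p, hp, rfl⟩ := hh
    show p.1 ∈ _
    induction hp using Subgroup.closure_induction with
    | mem y hy =>
      obtain ⟨j, hj, rfl⟩ := hy
      refine Subgroup.subset_closure ⟨gH_normalizer hF hω hj, ?_⟩
      obtain ⟨k, -, hk⟩ := (Nat.dvd_prime_pow Nat.prime_two).mp
        (show orderOf (gH ω j) ∣ 2 ^ 1 from orderOf_dvd_of_pow_eq_one (by
          rw [pow_one, sq]; exact (hG_spec hω hj).2.1))
      exact ⟨k, hk⟩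
    | one => exact one_mem _
    | mul a b _ _ ha hb => exact mul_mem ha hb
    | inv a _ ha => exact inv_mem ha

theorem isSimple_of_equiv (hF : Fintype.card F = 4) (hω : ω ^ 2 + ω + 1 = 0) {G : Type*} [Group G]
    [Finite G] (e : J3 F ω ≃* G) (S : Sylow 2 G) :
    (Cfsg.groupFusionSystem (S : Subgroup G)).IsSimple 2 := by
  haveI := Fact.mk Nat.prime_two
  haveI := finite_J3 hF hω
  obtain ⟨P, hP⟩ := exists_sylow (F := F) hF hω
  set f := e.toMonoidHom
  have hf : Function.Injective f := e.injective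
  have memf : ∀ {H : Subgroup (J3 F ω)} {x : J3 F ω}, e x ∈ H.map f ↔ x ∈ H := fun {H x} =>
    Subgroup.mem_map_iff_mem hf
  let P' : Sylow 2 G := Sylow.ofCard ((P : Subgroup (J3 F ω)).map f) (by
    rw [Subgroup.card_map_of_injective (K := (P : Subgroup (J3 F ω))) hf, ← Nat.card_congr e.toEquiv]
    exact P.card_eq_multiplicity)
  have hP' : (P' : Subgroup G) = (SJ ω).map f := by rw [← hP]; rfl
  have hnorm : ∀ {H : Subgroup (J3 F ω)} {x : J3 F ω}, x ∈ Subgroup.normalizer (H : Set (J3 F ω)) →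
      e x ∈ Subgroup.normalizer ((H.map f : Subgroup G) : Set G) := fun {H x} hx =>
    Subgroup.mem_normalizer_fintype fun y hy => by
      obtain ⟨q, hq, rfl⟩ := hy
      show e x * e q * (e x)⁻¹ ∈ _
      rw [← map_inv, ← map_mul, ← map_mul]
      exact memf.mpr ((Subgroup.mem_normalizer_iff.mp hx q).mp hq)
  refine isSimple_group_of_model P' ?_ (fun T hTS hT => ?_) ?_ S
  · rw [hP', ne_eq, Subgroup.map_eq_bot_iff_of_injective _ hf]
    intro h
    have := card_SJ (F := F) hF hω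
    rw [h, Subgroup.card_bot] at this
    norm_num at this
  · rw [hP'] at hTS hT ⊢
    have hT' : T = (T.comap f).map f := (Subgroup.map_comap_eq_self_of_surjective e.surjective T).symm
    rcases closed_cases hF hω (T.comap f) (fun x hx => memf.mp (hTS hx)) (fun g x hx hgx => by
      have := hT (e g) (e x) hx (by rw [← map_inv, ← map_mul, ← map_mul]; exact memf.mpr hgx)
      rw [← map_inv, ← map_mul, ← map_mul] at this
      exact this) with h | h
    · exact Or.inl (by rw [hT', h, Subgroup.map_bot])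
    · exact Or.inr (by rw [hT', h])
  · rw [hP']
    refine le_trans ?_ le_sup_right
    intro y hy
    obtain ⟨x, rfl⟩ := e.surjective y
    refine Subgroup.subset_closure ⟨hy, (QJ hF hω).map f, Subgroup.map_mono (QJ_le_SJ hF hω), ?_, ?_, ?_⟩
    · rintro _ ⟨s, hs, rfl⟩
      exact hnorm (SJ_le_normalizer hF hω hs)
    · intro z hz
      obtain ⟨w, rfl⟩ := e.surjective z
      refine memf.mpr (centralizer_QJ_le hF hω (Subgroup.mem_centralizer_iff.mpr fun q hq => e.injective ?_))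
      rw [map_mul, map_mul]
      exact Subgroup.mem_centralizer_iff.mp hz _ (memf.mpr hq)
    · have hxS : x ∈ Subgroup.normalizer (SJ ω : Set (J3 F ω)) :=
        Subgroup.mem_normalizer_fintype fun s hs => memf.mp (by
          rw [map_mul, map_mul, map_inv]
          exact (Subgroup.mem_normalizer_iff.mp hy _).mp (memf.mpr hs))
      have hm : f x ∈ (Subgroup.closure {g : J3 F ω |
          g ∈ Subgroup.normalizer (QJ hF hω : Set (J3 F ω)) ∧ ∃ k : ℕ, orderOf g = 2 ^ k}).map f :=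
        Subgroup.mem_map_of_mem f (CJ_le_closure hF hω (normalizer_le_CJ hF hω hxS))
      rw [MonoidHom.map_closure] at hm
      refine Subgroup.closure_mono ?_ hm
      rintro _ ⟨g, ⟨hg, k, hk⟩, rfl⟩
      exact ⟨hnorm hg, k, (e.orderOf_eq g).trans hk⟩

theorem fusion_simple {G : Type*} [Group G] [Finite G] (hG : Cfsg.Spor.IsoJ3 G) (S : Sylow 2 G) :
    (Cfsg.groupFusionSystem (S : Subgroup G)).IsSimple 2 := by
  obtain ⟨F, i1, i2, ω, hF, hω, ⟨e⟩⟩ := hG
  haveI := charTwo_of_card hF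
  exact isSimple_of_equiv hF hω e.symm S

end CfsgLib.J3
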