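import Cfsg.Agent.Lib.J3.IsoDefs

/-!
Records 10902 to 21803 of the isotropic one-spaces.
-/

set_option autoImplicit false

namespace CfsgLib.J3

theorem isoBlockB : isoBlockOK 10902 10902 = true := by decide +kernel

end CfsgLib.J3
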