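import Cfsg.Agent.Lib.J3.Unitary
import Cfsg.Agent.Lib.J3.IsoCheckA
import Cfsg.Agent.Lib.J3.IsoCheckB
import Cfsg.Agent.Lib.J3.IsoCheckC
import Cfsg.Agent.Lib.J3.IsoCheckD

/-!
The triple cover is transitive on isotropic one-spaces.
-/

set_option autoImplicit false

set_option maxRecDepth 20000

namespace CfsgLib.J3

open Cfsg.Spor
open scoped Matrix

theorem iso_all {n : ℕ} (hn : n < isoN) : isoOKat n = true := by
  have h : ∀ a b, isoBlockOK a b = true → a ≤ n → n < a + b → isoOKat n = true :=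
    fun a b h h1 h2 => List.all_eq_true.mp h n (List.mem_range'_1.mpr ⟨h1, h2⟩)
  unfold isoN at hn
  rcases Nat.lt_or_ge n 10902 with h1 | h1
  · exact h _ _ isoBlockA (by omega) (by omega)
  rcases Nat.lt_or_ge n 21804 with h2 | h2
  · exact h _ _ isoBlockB (by omega) (by omega)
  rcases Nat.lt_or_ge n 32706 with h3 | h3
  · exact h _ _ isoBlockC (by omega) (by omega)
  · exact h _ _ isoBlockD (by omega) (by omega)

theorem iCode_lt (n : ℕ) : iCode n < 262144 := Nat.mod_lt _ (by norm_num)

theorem root_iso : normV 6 = 6 := by decide +kernel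

variable {F : Type*} [Field F] [Fintype F] [DecidableEq F]

/-- numbers of vectors with norm zero and one -/
def cubeCnt : ℕ → ℕ × ℕ
  | 0 => (1, 0)
  | n + 1 => ((cubeCnt n).1 + 3 * (cubeCnt n).2, (cubeCnt n).2 + 3 * (cubeCnt n).1)

theorem cube_cases (hF : Fintype.card F = 4) (c : F) : c ^ 3 = if c = 0 then 0 else 1 := by
  split
  · subst_vars; simp
  · rename_i h
    have := FiniteField.pow_card_sub_one_eq_one c h
    rwa [hF] at this

theorem cube_count (hF : Fintype.card F = 4) [CharP F 2] : ∀ n : ℕ,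
    (Finset.univ.filter fun v : Fin n → F => ∑ i, v i ^ 3 = 0).card = (cubeCnt n).1 ∧
    (Finset.univ.filter fun v : Fin n → F => ∑ i, v i ^ 3 = 1).card = (cubeCnt n).2 := by
  intro n
  induction n with
  | zero => simp [cubeCnt]
  | succ n ih =>
    have key : ∀ s : F, (Finset.univ.filter fun v : Fin (n + 1) → F => ∑ i, v i ^ 3 = s).card =
        (Finset.univ.filter fun v : Fin n → F => ∑ i, v i ^ 3 = s).card +
          3 * (Finset.univ.filter fun v : Fin n → F => ∑ i, v i ^ 3 = s + 1).card := by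
      intro s
      have e : ∀ c : F, (Finset.univ.filter fun v : Fin n → F => c ^ 3 + ∑ i, v i ^ 3 = s).card =
          if c = 0 then (Finset.univ.filter fun v : Fin n → F => ∑ i, v i ^ 3 = s).card
          else (Finset.univ.filter fun v : Fin n → F => ∑ i, v i ^ 3 = s + 1).card := by
        intro c
        rw [cube_cases hF]
        split
        · simp
        · congr 1
          ext v
          simp only [Finset.mem_filter, Finset.mem_univ, true_and]
          have h2 : (2 : F) = 0 := CharTwo.two_eq_zero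
          constructor <;> intro h'
          · linear_combination h' - h2
          · linear_combination h' + h2
      calc (Finset.univ.filter fun v : Fin (n + 1) → F => ∑ i, v i ^ 3 = s).card
          = (Finset.univ.filter fun p : F × (Fin n → F) => p.1 ^ 3 + ∑ i, p.2 i ^ 3 = s).card := by
            refine (Finset.card_equiv (Fin.consEquiv fun _ => F) fun p => ?_).symm
            simp [Fin.sum_univ_succ]
        _ = ∑ c : F, (Finset.univ.filter fun v : Fin n → F => c ^ 3 + ∑ i, v i ^ 3 = s).card := by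
            simp only [Finset.card_filter, Fintype.sum_prod_type]
        _ = _ := by
            rw [Finset.sum_congr rfl fun c _ => e c, Finset.sum_ite, Finset.sum_const, Finset.sum_const]
            have h1 : (Finset.univ.filter fun c : F => c = 0).card = 1 := by
              rw [Finset.filter_eq']; simp
            have h2 : (Finset.univ.filter fun c : F => ¬c = 0).card = 3 := by
              rw [Finset.filter_ne', Finset.card_erase_of_mem (Finset.mem_univ _), Finset.card_univ, hF]
            rw [h1, h2, one_smul, smul_eq_mul]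
    constructor
    · rw [key, zero_add, ih.1, ih.2]; rfl
    · rw [key, CharTwo.add_self_eq_zero (1 : F), ih.1, ih.2]; rfl

theorem isotropic_card (hF : Fintype.card F = 4) [CharP F 2] :
    (Finset.univ.filter fun v : F9 → F => v ≠ 0 ∧ ∑ z, v z ^ 3 = 0).card = 130815 := by
  have h0 : (Finset.univ.filter fun v : F9 → F => ∑ z, v z ^ 3 = 0).card = 130816 := by
    refine Eq.trans ?_ ((cube_count (F := F) hF 9).1.trans (by decide))
    refine Finset.card_equiv (Equiv.arrowCongr posEquiv (Equiv.refl F)) fun v => ?_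
    simp only [Finset.mem_filter, Finset.mem_univ, true_and, Equiv.arrowCongr_apply, Equiv.coe_refl,
      Function.comp_apply, id_eq]
    rw [← posEquiv.symm.sum_comp (fun z => v z ^ 3)]
  have e : (Finset.univ.filter fun v : F9 → F => v ≠ 0 ∧ ∑ z, v z ^ 3 = 0) =
      (Finset.univ.filter fun v : F9 → F => ∑ z, v z ^ 3 = 0).erase 0 := by
    ext v; simp
  rw [e, Finset.card_erase_of_mem (by simp), h0]

variable {ω : F} [CharP F 2]

/-- the isotropic one-space with a given number -/
def iVec (ω : F) (n : ℕ) : F9 → F := toVec ω (iCode n)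

theorem iVec_reach (hω : ω ^ 2 + ω + 1 = 0) : ∀ n < isoN,
    ∃ u ∈ Ggrp ω, Prop' ((u : Matrix F9 F9 F) *ᵥ toVec ω 6) (iVec ω n) := by
  suffices ∀ d, ∀ n < isoN, iDep n = d →
      ∃ u ∈ Ggrp ω, Prop' ((u : Matrix F9 F9 F) *ᵥ toVec ω 6) (iVec ω n) from fun n hn => this _ n hn rfl
  intro d
  induction d using Nat.strong_induction_on with
  | _ d ih =>
    intro n hn hd
    have h := iso_all hn
    simp only [isoOKat, Bool.and_eq_true] at h
    have h2 := h.2
    split at h2
    · simp only [beq_iff_eq] at h2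
      refine ⟨1, one_mem _, ?_⟩
      rw [Units.val_one, Matrix.one_mulVec, iVec, h2]
      exact Prop'.refl _
    · simp only [Bool.and_eq_true, decide_eq_true_eq, beq_iff_eq] at h2
      obtain ⟨⟨h3, h4⟩, h5⟩ := h2
      obtain ⟨u, hu, hu'⟩ := ih _ (hd ▸ h4) _ h3 rfl
      have hg : iGen n < 4 := Nat.mod_lt _ (by norm_num)
      refine ⟨genU ω (iGen n) * u, mul_mem (genU_mem_G hg) hu, ?_⟩
      rw [Units.val_mul, ← Matrix.mulVec_mulVec]
      refine (hu'.mulVec _).trans ?_
      rw [iVec, iVec, h5]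
      exact hasMat_app hω (lens.1 _) (genU_coe hω hg) _

theorem iCode_normal (hω : ω ^ 2 + ω + 1 = 0) {n : ℕ} (hn : n < isoN) : normV (iCode n) = iCode n := by
  have h := iso_all hn
  simp only [isoOKat, Bool.and_eq_true] at h
  have h2 := h.2
  split at h2
  · simp only [beq_iff_eq] at h2
    rw [h2, root_iso]
  · simp only [Bool.and_eq_true, decide_eq_true_eq, beq_iff_eq] at h2
    obtain ⟨-, h5⟩ := h2
    obtain ⟨c, hc, e⟩ := normV_smul hω (app (gM (iGen n)) (iCode (iPar n)))
    rw [h5]
    exact normV_eq hω (normFrom_lt 9 0 _ (app_lt (bounds.1 _) _)) (app_lt (bounds.1 _) _) hc e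

theorem iCode_strictMono {m n : ℕ} (h : m < n) (hn : n < isoN) : iCode m < iCode n := by
  induction n with
  | zero => omega
  | succ n ih =>
    have hs := iso_all (n := n) (by omega)
    simp only [isoOKat, Bool.and_eq_true] at hs
    have h1 := hs.1
    rw [if_pos hn, decide_eq_true_eq] at h1
    rcases Nat.lt_succ_iff_lt_or_eq.mp h with h | rfl
    · exact (ih h (by omega)).trans h1
    · exact h1

theorem iVec_inj (hω : ω ^ 2 + ω + 1 = 0) {m n : ℕ} (hm : m < isoN) (hn : n < isoN)
    (h : Prop' (iVec ω m) (iVec ω n)) : m = n := by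
  obtain ⟨c, hc, e⟩ := h
  have e' := normV_eq hω (iCode_lt m) (iCode_lt n) hc e
  rw [iCode_normal hω hm, iCode_normal hω hn] at e'
  rcases lt_trichotomy m n with h | h | h
  · exact absurd e' (Nat.ne_of_lt (iCode_strictMono h hn))
  · exact h
  · exact absurd e' (Nat.ne_of_gt (iCode_strictMono h hm))

theorem norm_mulVec (hω : ω ^ 2 + ω + 1 = 0) {u : GL F9 F} (hu : u ∈ Ggrp ω) (v : F9 → F) :
    ∑ z, ((u : Matrix F9 F9 F) *ᵥ v) z ^ 3 = ∑ z, v z ^ 3 := by
  have hA : (u : Matrix F9 F9 F)ᵀ * (u : Matrix F9 F9 F).map (frobenius F 2) = 1 :=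
    threeJ3_unitary hω (threeJ3_eq hω ▸ hu)
  have key : ∀ s : F9 → F, ∑ z, s z ^ 3 = s ⬝ᵥ (frobenius F 2 ∘ s) := fun s =>
    Finset.sum_congr rfl fun z _ => by rw [Function.comp_apply, frobenius_def, ← pow_succ']
  have hmap : frobenius F 2 ∘ ((u : Matrix F9 F9 F) *ᵥ v) =
      (u : Matrix F9 F9 F).map (frobenius F 2) *ᵥ (frobenius F 2 ∘ v) :=
    funext fun i => RingHom.map_mulVec (frobenius F 2) _ v i
  rw [key, key, hmap, Matrix.dotProduct_mulVec, ← Matrix.vecMul_transpose (u : Matrix F9 F9 F) v,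
    Matrix.vecMul_vecMul, hA, Matrix.vecMul_one]

theorem root_isotropic : ∑ z, toVec ω 6 z ^ 3 = 0 := by
  have key : ∀ z : F9, (6 : ℕ).testBit (9 + pos z) = false := by decide
  have key2 : (Finset.univ.filter fun z : F9 => (6 : ℕ).testBit (pos z) = true).card = 2 := by decide
  have h2 : (2 : F) = 0 := CharTwo.two_eq_zero
  simp only [toVec, cf, key, Bool.false_eq_true, if_false, add_zero, ite_pow, one_pow, ne_eq,
    OfNat.ofNat_ne_zero, not_false_eq_true, zero_pow]
  rw [Finset.sum_boole, key2, Nat.cast_ofNat, h2]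

theorem toVec_six_ne_zero (hω : ω ^ 2 + ω + 1 = 0) : toVec ω 6 ≠ (0 : F9 → F) := fun e => by
  have := toVec_inj (m := 6) (n := 0) hω (by norm_num) (by norm_num) (e.trans toVec_zero.symm)
  omega

theorem mulVec_ne_zero {u : GL F9 F} {v : F9 → F} (hv : v ≠ 0) : (u : Matrix F9 F9 F) *ᵥ v ≠ 0 := fun e =>
  hv (by
    have := congrArg (fun s => ((u⁻¹ : GL F9 F) : Matrix F9 F9 F) *ᵥ s) e
    simpa [Matrix.mulVec_mulVec, Matrix.mulVec_zero, ← Units.val_mul] using this)

attribute [local irreducible] isoN in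
theorem isotropic_reach (hF : Fintype.card F = 4) (hω : ω ^ 2 + ω + 1 = 0) {v : F9 → F} (hv : v ≠ 0)
    (h : ∑ z, v z ^ 3 = 0) : ∃ u ∈ Ggrp ω, Prop' ((u : Matrix F9 F9 F) *ᵥ toVec ω 6) v := by
  set T := (Finset.range isoN) ×ˢ (Finset.univ.filter fun c : F => c ≠ 0)
  set U := Finset.univ.filter fun v : F9 → F => v ≠ 0 ∧ ∑ z, v z ^ 3 = 0
  have hne : ∀ n < isoN, iVec ω n ≠ 0 ∧ ∑ z, iVec ω n z ^ 3 = 0 := by
    intro n hn
    obtain ⟨u, hu, c, hc, e⟩ := iVec_reach hω n hn
    have hi : iVec ω n = c⁻¹ • ((u : Matrix F9 F9 F) *ᵥ toVec ω 6) := by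
      rw [e, smul_smul, inv_mul_cancel₀ hc, one_smul]
    refine ⟨hi ▸ smul_ne_zero (inv_ne_zero hc) (mulVec_ne_zero (toVec_six_ne_zero hω)), ?_⟩
    simp only [hi, Pi.smul_apply, smul_eq_mul, mul_pow, ← Finset.mul_sum, norm_mulVec hω hu,
      root_isotropic, mul_zero]
  have himg : T.image (fun p => p.2 • iVec ω p.1) = U := by
    refine Finset.eq_of_subset_of_card_le ?_ ?_
    · intro w hw
      obtain ⟨p, hp, rfl⟩ := Finset.mem_image.mp hw
      replace hp : p.1 < isoN ∧ p.2 ≠ 0 :=
        ⟨Finset.mem_range.mp (Finset.mem_product.mp hp).1, (Finset.mem_filter.mp (Finset.mem_product.mp hp).2).2⟩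
      obtain ⟨h1, h2⟩ := hne p.1 hp.1
      simp only [U, Finset.mem_filter, Finset.mem_univ, true_and]
      refine ⟨smul_ne_zero hp.2 h1, ?_⟩
      simp only [Pi.smul_apply, smul_eq_mul, mul_pow, ← Finset.mul_sum, h2, mul_zero]
    · rw [Finset.card_image_of_injOn, Finset.card_product, Finset.card_range, isotropic_card hF,
        Finset.filter_ne' Finset.univ (0 : F), Finset.card_erase_of_mem (Finset.mem_univ _),
        Finset.card_univ, hF]
      · rw [show isoN = 43605 by with_unfolding_all rfl]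
      · intro p hp q hq e
        simp only [T, Finset.coe_product, Set.mem_prod, Finset.mem_coe, Finset.mem_range,
          Finset.mem_filter, Finset.mem_univ, true_and] at hp hq
        have hpq : p.1 = q.1 := iVec_inj hω hp.1 hq.1 ⟨p.2⁻¹ * q.2,
          mul_ne_zero (inv_ne_zero hp.2) hq.2, by
            rw [← smul_smul, show q.2 • iVec ω q.1 = p.2 • iVec ω p.1 from e.symm, smul_smul,
              inv_mul_cancel₀ hp.2, one_smul]⟩
        have e2 : p.2 • iVec ω p.1 = q.2 • iVec ω q.1 := e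
        rw [← hpq] at e2
        exact Prod.ext hpq (smul_left_injective F (hne p.1 hp.1).1 e2)
  have hvU : v ∈ U := by simp [U, hv, h]
  rw [← himg] at hvU
  obtain ⟨p, hp, rfl⟩ := Finset.mem_image.mp hvU
  replace hp : p.1 < isoN ∧ p.2 ≠ 0 :=
    ⟨Finset.mem_range.mp (Finset.mem_product.mp hp).1, (Finset.mem_filter.mp (Finset.mem_product.mp hp).2).2⟩
  obtain ⟨u, hu, e⟩ := iVec_reach hω p.1 hp.1
  exact ⟨u, hu, e.trans (Prop'.symm ⟨p.2, hp.2, rfl⟩)⟩

end CfsgLib.J3
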