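import Cfsg.Agent.Lib.J3.Check
import Cfsg.Agent.Lib.J3.IsoData0
import Cfsg.Agent.Lib.J3.IsoData1

/-!
The isotropic one-spaces.
-/

set_option autoImplicit false

namespace CfsgLib.J3

/-- number of isotropic one-spaces -/
def isoN : ℕ := 43605

/-- record of an isotropic one-space -/
def isoRec (n : ℕ) : ℕ :=
  ((if n / 256 < 86 then isoTab0.getD (n / 256) 0 else isoTab1.getD (n / 256 - 86) 0) >>>
    (44 * (n % 256))) &&& 17592186044415

/-- code -/
def iCode (n : ℕ) : ℕ := isoRec n % 262144

/-- parent -/
def iPar (n : ℕ) : ℕ := isoRec n >>> 18 % 65536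

/-- generator from the parent -/
def iGen (n : ℕ) : ℕ := isoRec n >>> 34 % 4

/-- depth -/
def iDep (n : ℕ) : ℕ := isoRec n >>> 36 % 256

/-- the record is consistent -/
def isoOKat (n : ℕ) : Bool :=
  let c := iCode n
  let p := iPar n
  (if n + 1 < isoN then decide (c < iCode (n + 1)) else true) &&
  (if iDep n == 0 then c == 6 else
    decide (p < isoN) && decide (iDep p < iDep n) &&
      c == normV (app (gM (iGen n)) (iCode p)))

/-- a block of records -/
def isoBlockOK (a b : ℕ) : Bool := (List.range' a b).all isoOKat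

end CfsgLib.J3
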