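import Cfsg.Agent.Lib.J3.OutDefs

/-!
Finite checks for the outer automorphism group.
-/

set_option autoImplicit false

namespace CfsgLib.J3

theorem xOK_true : xOK = true := by decide +kernel
theorem rInvOK_true : rInvOK = true := by decide +kernel
theorem candOK_true : (List.range 112).all candOK = true := by decide +kernel
theorem genOK_true : genOK = true := by decide +kernel
theorem tauDecOK_true : tauDecOK = true := by decide +kernel

end CfsgLib.J3
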