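import Cfsg.Agent.Lib.J3.Elem
import Cfsg.Agent.Lib.J3.Unitary
import Cfsg.Agent.Lib.J3.OutCheck

/-!
The field automorphism composed with a permutation of the axes.
-/

set_option autoImplicit false
set_option maxRecDepth 4000

namespace CfsgLib.J3

open Cfsg.Spor
open scoped Matrix

/-- conjugation on the index field -/
def fPerm : Equiv.Perm F9 where
  toFun z := (z.1, -z.2)
  invFun z := (z.1, -z.2)
  left_inv z := by simp
  right_inv z := by simp

/-- `T` codes the image of `M` -/
def tauRel (M T : List ℕ) : Prop :=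
  entOK T (fun w z => ((bitsM M (fPerm w) (fPerm z)).1 ^^ (bitsM M (fPerm w) (fPerm z)).2,
    (bitsM M (fPerm w) (fPerm z)).2))

instance (M T : List ℕ) : Decidable (tauRel M T) := by unfold tauRel; infer_instance

theorem tauRel_gens : ∀ g < 4, tauRel (gM g) (tauGens.getD g idM) := by decide +kernel

theorem tauRel_xu : tauRel xE tauX ∧ tauRel uE tauU ∧ is9 tauX = true ∧ is9 tauU = true ∧
    peq tauX xI = true := by decide +kernel

variable {F : Type*} [Field F] [CharP F 2] [Fintype F] {ω : F}

/-- the semilinear conjugation on invertible matrices -/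
noncomputable def tauGL (F : Type*) [Field F] [CharP F 2] : GL F9 F →* GL F9 F :=
  Units.map (((frobenius F 2).mapMatrix).toMonoidHom.comp
    (Matrix.reindexAlgEquiv F F fPerm).toMulEquiv.toMonoidHom)

theorem tauGL_coe (u : GL F9 F) :
    ((tauGL F u : GL F9 F) : Matrix F9 F9 F) =
      ((u : Matrix F9 F9 F).submatrix fPerm fPerm).map (fun a : F => a ^ 2) := rfl

theorem hasMat_tau (hω : ω ^ 2 + ω + 1 = 0) {M T : List ℕ} (h : tauRel M T) {u : GL F9 F}
    (hu : HasMat ω M u) : HasMat ω T (tauGL F u) := by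
  rw [HasMat, tauGL_coe, hu]
  ext w z
  rw [toMat_of_ent h, cf_sq hω]
  rfl

theorem tau_gen (hω : ω ^ 2 + ω + 1 = 0) {g : ℕ} (hg : g < 4) : tauGL F (genU ω g) ∈ threeJ3 F ω := by
  have h := tauDecOK_true
  simp only [tauDecOK, Bool.and_eq_true, List.all_eq_true, List.mem_range, beq_iff_eq] at h
  obtain ⟨ht, e⟩ := h.2 g hg
  obtain ⟨v, hv, hv'⟩ := (good_dcM (F := F) hω ht).mem
  rw [e] at hv'
  rwa [hasMat_ext (hasMat_tau hω (tauRel_gens g hg) (genU_coe hω hg)) hv']

theorem tau_mem (hω : ω ^ 2 + ω + 1 = 0) {u : GL F9 F} (hu : u ∈ threeJ3 F ω) :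
    tauGL F u ∈ threeJ3 F ω := by
  have : Ggrp ω ≤ (threeJ3 F ω).comap (tauGL F) := by
    refine (Subgroup.closure_le _).mpr ?_
    rintro _ ⟨g, hg, rfl⟩
    exact tau_gen hω hg
  exact this (show u ∈ Ggrp ω from threeJ3_eq hω ▸ hu)

/-- the automorphism of the triple cover -/
noncomputable def tauCover (hω : ω ^ 2 + ω + 1 = 0) : threeJ3 F ω ≃* threeJ3 F ω :=
  MulEquiv.ofBijective
    (((tauGL F).comp (threeJ3 F ω).subtype).codRestrict (threeJ3 F ω) fun u => tau_mem hω u.2)
    (Finite.injective_iff_bijective.mp fun a b e => by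
      refine Subtype.ext (Units.ext ?_)
      have e' := congrArg Units.val (congrArg Subtype.val e)
      simp only [MonoidHom.codRestrict_apply, MonoidHom.comp_apply, Subgroup.coe_subtype, tauGL_coe] at e'
      ext w z
      have := congrFun (congrFun e' (fPerm.symm w)) (fPerm.symm z)
      simp only [Matrix.map_apply, Matrix.submatrix_apply, Equiv.apply_symm_apply] at this
      exact frobenius_inj F 2 this)

/-- the automorphism of the third Janko group -/
noncomputable def tauJ (hω : ω ^ 2 + ω + 1 = 0) : MulAut (J3 F ω) :=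
  QuotientGroup.congr _ _ (tauCover hω) (by
    refine le_antisymm ?_ ?_
    · rintro _ ⟨x, hx, rfl⟩
      refine Subgroup.mem_center_iff.mpr fun y => ?_
      obtain ⟨y, rfl⟩ := (tauCover hω).surjective y
      change tauCover hω y * tauCover hω x = tauCover hω x * tauCover hω y
      rw [← map_mul, ← map_mul, Subgroup.mem_center_iff.mp hx y]
    · intro y hy
      refine ⟨(tauCover hω).symm y, Subgroup.mem_center_iff.mpr fun x => ?_, (tauCover hω).apply_symm_apply y⟩
      have := Subgroup.mem_center_iff.mp hy (tauCover hω x)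
      exact (tauCover hω).injective (by simp [map_mul, this]))

theorem tauJ_el (hω : ω ^ 2 + ω + 1 = 0) {M T : List ℕ} (hM : Good ω M) (hT : is9 T = true)
    (h : tauRel M T) : Good ω T ∧ tauJ hω (el ω M) = el ω T := by
  simp only [is9, Bool.and_eq_true, beq_iff_eq, List.all_eq_true, decide_eq_true_eq] at hT
  obtain ⟨u, hu, hu'⟩ := hM.mem
  have ht := hasMat_tau hω h hu'
  refine ⟨⟨hT.1, hT.2, _, tau_mem hω hu, ht⟩, ?_⟩
  rw [el_eq_mk hu hu', el_eq_mk (tau_mem hω hu) ht]
  rfl

end CfsgLib.J3
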