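import Cfsg.Prelude.Def_KGroupFacts
import Cfsg.Agent.Lib.J3.Tau
import Cfsg.Agent.Lib.J3.OutScanA
import Cfsg.Agent.Lib.J3.OutScanB

/-!
The outer automorphism group of the third Janko group has order two.
-/

set_option autoImplicit false
set_option maxRecDepth 4000
set_option linter.style.haveILetI false

namespace CfsgLib.J3

open Cfsg.Spor
open scoped Matrix

variable {F : Type*} [Field F] [CharP F 2] [Fintype F] {ω : F}

theorem xFacts (hF : Fintype.card F = 4) (hω : ω ^ 2 + ω + 1 = 0) :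
    Good ω xE ∧ Good ω xI ∧ Good ω k0E ∧ Good ω fE ∧ el ω xI = el ω xE * el ω xE ∧
      el ω xE ^ 3 = 1 ∧ el ω xE ≠ 1 ∧ el ω k0E * el ω k0E = 1 ∧
      el ω k0E * el ω xE * el ω k0E = el ω xI ∧ el ω fE ^ 5 = 1 ∧ el ω fE ≠ 1 ∧
      el ω fE * el ω xE = el ω xE * el ω fE := by
  have h := xOK_true
  simp only [xOK, Bool.and_eq_true, decide_eq_true_eq, beq_iff_eq, Bool.not_eq_true'] at h
  obtain ⟨⟨⟨⟨⟨⟨⟨⟨⟨⟨hx, hk⟩, hf⟩, hx3⟩, hx1⟩, hk2⟩, hkx⟩, -⟩, hf5⟩, hf1⟩, hfx⟩ := h
  have gx : Good ω xE := good_kM (F := F) hω hx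
  have gk : Good ω k0E := good_kM (F := F) hω hk
  have gf : Good ω fE := good_kM (F := F) hω hf
  have gi : Good ω xI := good_mmul hω gx gx
  refine ⟨gx, gi, gk, gf, el_mul hω gx gx, ?_, ?_, ?_, ?_, ?_, ?_, ?_⟩
  · rw [← (good_mpow hω gx 3).2, show mpow xE 3 = idM from hx3, el_idM]
  · rw [← el_idM (ω := ω)]; exact el_ne_of_peq hF hω gx good_idM hx1
  · rw [← el_mul hω gk gk, show mmul k0E k0E = idM from hk2, el_idM]
  · have e := el_of_peq (F := F) hω (good_mmul hω gk (good_mmul hω gx gk)) gi hkx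
    rw [el_mul hω gk (good_mmul hω gx gk), el_mul hω gx gk, ← mul_assoc] at e
    exact e
  · rw [← (good_mpow hω gf 5).2, show mpow fE 5 = idM from hf5, el_idM]
  · rw [← el_idM (ω := ω)]; exact el_ne_of_peq hF hω gf good_idM hf1
  · rw [← el_mul hω gf gx, ← el_mul hω gx gf]
    exact el_of_peq hω (good_mmul hω gf gx) (good_mmul hω gx gf) hfx

attribute [local irreducible] el tauJ xE xI k0E fE kM rOf mmul mpow evalW peq app normV gM tauX tauU

theorem xI_eq_inv (hF : Fintype.card F = 4) (hω : ω ^ 2 + ω + 1 = 0) :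
    el ω xI = (el ω xE)⁻¹ := by
  obtain ⟨-, -, -, -, h, h3, -⟩ := xFacts (F := F) hF hω
  rw [h, eq_inv_iff_mul_eq_one, ← h3, pow_succ, pow_two]

/-- the point stabiliser normalises the subgroup of order three -/
theorem kM_conj (hF : Fintype.card F = 4) (hω : ω ^ 2 + ω + 1 = 0) {a : ℕ} (ha : a < 6480) :
    el ω (kM a) * el ω xE * (el ω (kM a))⁻¹ = el ω xE ∨
      el ω (kM a) * el ω xE * (el ω (kM a))⁻¹ = (el ω xE)⁻¹ := by
  obtain ⟨gx, gi, -⟩ := xFacts (F := F) hF hω
  have hinv := xI_eq_inv (F := F) hF hω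
  set X := el ω xE
  let S : Subgroup (J3 F ω) :=
    { carrier := {q | q * X * q⁻¹ = X ∨ q * X * q⁻¹ = X⁻¹}
      one_mem' := Or.inl (by simp)
      mul_mem' := fun {p q} hp hq => by
        simp only [Set.mem_setOf_eq] at hp hq ⊢
        have e : p * q * X * (p * q)⁻¹ = p * (q * X * q⁻¹) * p⁻¹ := by group
        have e2 : p * X⁻¹ * p⁻¹ = (p * X * p⁻¹)⁻¹ := by group
        rcases hp with hp | hp <;> rcases hq with hq | hq <;> rw [e, hq] <;>
          first | (rw [hp]; simp) | (rw [e2, hp]; simp)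
      inv_mem' := fun {p} hp => by
        simp only [Set.mem_setOf_eq] at hp ⊢
        rcases hp with hp | hp
        · left
          calc p⁻¹ * X * p⁻¹⁻¹ = p⁻¹ * (p * X * p⁻¹) * p := by rw [hp]; group
            _ = X := by group
        · right
          calc p⁻¹ * X * p⁻¹⁻¹ = p⁻¹ * (p * X * p⁻¹)⁻¹ * p := by rw [hp]; group
            _ = X⁻¹ := by group }
  obtain ⟨u, hu, hu'⟩ := kMat_mem (F := F) hω ha
  have hG : u ∈ threeJ3 F ω := threeJ3_eq hω ▸ Kgrp_le hu
  have key : Kgrp ω ≤ (S.comap (QuotientGroup.mk' (Subgroup.center (threeJ3 F ω)))).map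
      (threeJ3 F ω).subtype := by
    refine (Subgroup.closure_le _).mpr ?_
    rintro _ ⟨g, hg, rfl⟩
    have hg4 : g < 4 := Nat.lt_trans hg (by norm_num : 3 < 4)
    have hgm : genU ω g ∈ threeJ3 F ω := threeJ3_eq hω ▸ genU_mem_G hg4
    refine ⟨⟨_, hgm⟩, ?_, rfl⟩
    rw [SetLike.mem_coe, Subgroup.mem_comap]
    rw [QuotientGroup.mk'_apply, ← el_eq_mk hgm (genU_coe hω hg4)]
    have h := xOK_true
    simp only [xOK, Bool.and_eq_true, List.all_eq_true, List.mem_range, Bool.or_eq_true] at h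
    have hgX := h.1.1.1.2 g hg
    have gg := good_gM (F := F) hω hg4
    rcases hgX with e | e
    · left
      have e' := el_of_peq (F := F) hω (good_mmul hω gg gx) (good_mmul hω gx gg) e
      rw [el_mul hω gg gx, el_mul hω gx gg] at e'
      rw [e', mul_inv_cancel_right]
    · right
      have e' := el_of_peq (F := F) hω (good_mmul hω gg gx) (good_mmul hω gi gg) e
      rw [el_mul hω gg gx, el_mul hω gi gg, hinv] at e'
      rw [e', mul_inv_cancel_right]
  obtain ⟨v, hv, e⟩ := key hu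
  have e' : v = ⟨u, hG⟩ := Subtype.ext e
  subst e'
  have : el ω (kM a) ∈ S := by rw [el_eq_mk hG hu']; exact hv
  exact this

theorem five_fix (n : ℕ) (hn : n < orbN) (h : normV (app fE (oCode n)) = oCode n) : n = 0 := by
  have hA := fFixA; have hB := fFixB
  simp only [fFixOK, List.all_eq_true, List.mem_range'_1, Bool.or_eq_true, beq_iff_eq,
    bne_iff_ne] at hA hB
  unfold orbN at hn
  rcases Nat.lt_or_ge n 11628 with h' | h'
  · exact (hA n ⟨Nat.zero_le n, by omega⟩).resolve_right (fun e => e h)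
  · exact (hB n ⟨h', by omega⟩).resolve_right (fun e => e h)

theorem three_commuting_f (hF : Fintype.card F = 4) (hω : ω ^ 2 + ω + 1 = 0) {y : J3 F ω}
    (h3 : y ^ 3 = 1) (hy : y ≠ 1) (hc : el ω fE * y = y * el ω fE) :
    y = el ω xE ∨ y = (el ω xE)⁻¹ := by
  obtain ⟨gx, gi, -, gf, -⟩ := xFacts (F := F) hF hω
  obtain ⟨⟨u, hu⟩, rfl⟩ := QuotientGroup.mk'_surjective _ y
  obtain ⟨v, hv, hv'⟩ := gf.mem
  rw [el_eq_mk hv hv', QuotientGroup.mk'_apply, ← QuotientGroup.mk_mul, ← QuotientGroup.mk_mul,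
    QuotientGroup.eq, center_iff hω] at hc
  obtain ⟨c, hc⟩ := hc
  have hc0 : c ≠ 0 := by
    rintro rfl
    rw [zero_smul] at hc
    exact Units.ne_zero _ hc
  have huv : (u : Matrix F9 F9 F) * (v : Matrix F9 F9 F) = c • ((v : Matrix F9 F9 F) * (u : Matrix F9 F9 F)) := by
    have hc' : (((v * u)⁻¹ * (u * v) : GL F9 F) : Matrix F9 F9 F) = c • (1 : Matrix F9 F9 F) := hc
    rw [← Units.val_mul, ← Units.val_mul, ← mul_inv_cancel_left (v * u) (u * v), Units.val_mul (v * u), hc',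
      Matrix.mul_smul, Matrix.mul_one]
  -- the image of the first axis is fixed
  obtain ⟨n, hn, en⟩ := Ggrp_oVec hω (show u ∈ Ggrp ω from threeJ3_eq hω ▸ hu) 0 (by norm_num [orbN])
  rw [oVec_zero] at en
  have hfe : Prop' ((v : Matrix F9 F9 F) *ᵥ e0 F) (e0 F) :=
    have hvK : v ∈ Kgrp ω := by
      obtain ⟨v', hv1, hv2⟩ := kMat_mem (F := F) hω (show fA < 6480 by
        have h := xOK_true
        simp only [xOK, Bool.and_eq_true, decide_eq_true_eq] at h
        tauto)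
      have e : v = v' := hasMat_ext hv' (show HasMat ω fE v' by unfold fE; exact hv2)
      exact e ▸ hv1
    Kgrp_le_axisStab hω hvK
  have h1 : Prop' ((v : Matrix F9 F9 F) *ᵥ ((u : Matrix F9 F9 F) *ᵥ e0 F)) ((u : Matrix F9 F9 F) *ᵥ e0 F) := by
    refine Prop'.trans (Prop'.symm ⟨c, hc0, ?_⟩) (hfe.mulVec (u : Matrix F9 F9 F))
    rw [Matrix.mulVec_mulVec, Matrix.mulVec_mulVec, huv, Matrix.smul_mulVec]
  have h2 : Prop' (toVec ω (app fE (oCode n))) (oVec ω n) := by
    rw [toVec_app hω gf.len, ← hv']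
    exact ((en.symm.mulVec _).trans h1).trans en
  obtain ⟨d, hd, ed⟩ := h2
  have := normV_eq hω (app_lt gf.bnd _) (oCode_lt n) hd ed
  rw [oCode_normal hω hn] at this
  obtain rfl := five_fix n hn this
  rw [oVec_zero] at en
  obtain ⟨a, ha, ea⟩ := exists_kM_of_fix hω hu (show u ∈ axisStab F from en)
  have ga := good_kM (F := F) hω ha
  rw [QuotientGroup.mk'_apply, ea] at h3 hy ⊢
  have hcomm : el ω (kM a) * el ω fE = el ω fE * el ω (kM a) := by
    rw [← ea, el_eq_mk hv hv', ← QuotientGroup.mk_mul, ← QuotientGroup.mk_mul, QuotientGroup.eq, center_iff hω]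
    refine ⟨c⁻¹, ?_⟩
    change (((u * v)⁻¹ * (v * u) : GL F9 F) : Matrix F9 F9 F) = _
    have e2 : ((v * u : GL F9 F) : Matrix F9 F9 F) = c⁻¹ • ((u * v : GL F9 F) : Matrix F9 F9 F) := by
      rw [Units.val_mul, Units.val_mul, huv, smul_smul, inv_mul_cancel₀ hc0, one_smul]
    rw [Units.val_mul, e2, Matrix.mul_smul, ← Units.val_mul, inv_mul_cancel, Units.val_one]
  have hscan : ∀ lo, cFiveOK lo 3240 = true → lo ≤ a → a < lo + 3240 →
      el ω (kM a) = el ω xE ∨ el ω (kM a) = (el ω xE)⁻¹ := by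
    intro lo h l1 l2
    simp only [cFiveOK, List.all_eq_true, List.mem_range'_1, Bool.or_eq_true, Bool.not_eq_true'] at h
    rcases h a ⟨l1, l2⟩ with (((h | h) | h) | h) | h
    · exact absurd (by rw [el_mul hω ga gf, el_mul hω gf ga, hcomm])
        (el_ne_of_peq hF hω (good_mmul hω ga gf) (good_mmul hω gf ga) h)
    · exact absurd (by rw [(good_mpow hω ga 3).2, h3, el_idM])
        (el_ne_of_peq hF hω (good_mpow hω ga 3).1 good_idM h)
    · exact absurd ((el_of_peq hω ga good_idM h).trans el_idM) hy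
    · exact Or.inl (el_of_peq hω ga gx h)
    · exact Or.inr ((el_of_peq hω ga gi h).trans (xI_eq_inv hF hω))
  rcases Nat.lt_or_ge a 3240 with h | h
  · exact hscan 0 cFiveA (Nat.zero_le a) (by omega)
  · exact hscan 3240 cFiveB h (by omega)

theorem three_five_conj (hF : Fintype.card F = 4) (hω : ω ^ 2 + ω + 1 = 0) {y f : J3 F ω}
    (h3 : y ^ 3 = 1) (hy : y ≠ 1) (hf5 : f ^ 5 = 1) (hf : f ≠ 1) (hc : f * y = y * f) :
    ∃ g : J3 F ω, g * y * g⁻¹ = el ω xE ∨ g * y * g⁻¹ = (el ω xE)⁻¹ := by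
  obtain ⟨-, -, -, -, -, -, -, -, -, hF5, hF1, -⟩ := xFacts (F := F) hF hω
  haveI := Fact.mk (show Nat.Prime 5 by norm_num)
  haveI : Finite (J3 F ω) := Nat.finite_of_card_ne_zero (by rw [card_J3 hF hω]; norm_num)
  have hsyl : ∀ w : J3 F ω, w ^ 5 = 1 → w ≠ 1 → ∃ P : Sylow 5 (J3 F ω), (P : Subgroup (J3 F ω)) = Subgroup.zpowers w := by
    intro w hw hw1
    refine ⟨Sylow.ofCard (Subgroup.zpowers w) ?_, rfl⟩
    rw [Nat.card_zpowers, orderOf_eq_prime hw hw1, card_J3 hF hω,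
      show Nat.factorization 50232960 5 = 1 from ?_, pow_one]
    have : (50232960 : ℕ) = 5 * 10046592 := by norm_num
    rw [this, Nat.factorization_mul (by norm_num) (by norm_num)]
    rw [Finsupp.add_apply, Nat.Prime.factorization_self (by norm_num), Nat.factorization_eq_zero_of_not_dvd (by norm_num)]
  obtain ⟨P, hP⟩ := hsyl f hf5 hf
  obtain ⟨Q, hQ⟩ := hsyl _ hF5 hF1
  obtain ⟨g, hg⟩ := MulAction.exists_smul_eq (J3 F ω) P Q
  refine ⟨g, three_commuting_f hF hω (by rw [conj_pow, h3, mul_one, mul_inv_cancel]) (by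
    simpa using hy) ?_⟩
  have hmem : el ω fE ∈ Subgroup.zpowers (g * f * g⁻¹) := by
    have h1 : el ω fE ∈ (Q : Subgroup (J3 F ω)) := hQ ▸ Subgroup.mem_zpowers _
    rw [← hg, Sylow.coe_subgroup_smul, hP] at h1
    rw [show g * f * g⁻¹ = MulAut.conj g f from rfl]
    obtain ⟨z, ⟨k, hk⟩, hz⟩ := h1
    refine ⟨k, ?_⟩
    change (MulAut.conj g f) ^ k = _
    rw [← map_zpow, ← hz]
    exact congrArg (MulAut.conj g) hk
  obtain ⟨k, hk⟩ := hmem
  rw [← hk]
  have hcy : Commute (g * f * g⁻¹) (g * y * g⁻¹) := (Commute.conj_iff g).mpr hc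
  exact (hcy.zpow_left k).eq

theorem candM_spec (hF : Fintype.card F = 4) (hω : ω ^ 2 + ω + 1 = 0) {j e k : ℕ} (hj : j < 28)
    (he : e < 2) (hk : k < 2) :
    Good ω (candM (4 * j + 2 * e + k)) ∧
      el ω (candM (4 * j + 2 * e + k)) =
        el ω k0E ^ k * (el ω (rOf j) * (if e = 0 then el ω xE else (el ω xE)⁻¹) * (el ω (rOf j))⁻¹) *
          el ω k0E ^ k := by
  obtain ⟨gx, gi, gk, -⟩ := xFacts (F := F) hF hω
  have h := rInvOK_true
  simp only [rInvOK, List.all_eq_true, List.mem_range, Bool.and_eq_true, beq_iff_eq] at h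
  obtain ⟨⟨h9, hm⟩, -⟩ := h j hj
  obtain ⟨gr, er⟩ := good_inv hω (good_rOf (F := F) hω hj) h9 hm
  have hv : Good ω (rConj j e) ∧ el ω (rConj j e) =
      el ω (rOf j) * (if e = 0 then el ω xE else (el ω xE)⁻¹) * (el ω (rOf j))⁻¹ := by
    rw [rConj]
    interval_cases e
    · simp only [beq_self_eq_true, if_true]
      exact ⟨good_mmul hω (good_rOf hω hj) (good_mmul hω gx gr), by
        rw [el_mul hω (good_rOf hω hj) (good_mmul hω gx gr), el_mul hω gx gr, er, ← mul_assoc]⟩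
    · simp only [show ((1 : ℕ) == 0) = false from rfl, Bool.false_eq_true, if_false, one_ne_zero]
      exact ⟨good_mmul hω (good_rOf hω hj) (good_mmul hω gi gr), by
        rw [el_mul hω (good_rOf hω hj) (good_mmul hω gi gr), el_mul hω gi gr, er, xI_eq_inv hF hω, ← mul_assoc]⟩
  have d1 : (4 * j + 2 * e + k) / 4 = j := by omega
  have d2 : (4 * j + 2 * e + k) / 2 % 2 = e := by omega
  have d3 : (4 * j + 2 * e + k) % 2 = k := by omega
  rw [candM]
  simp only [d1, d2, d3]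
  interval_cases k
  · simp only [beq_self_eq_true, if_true, pow_zero, one_mul, mul_one]
    exact hv
  · simp only [show ((1 : ℕ) == 0) = false from rfl, Bool.false_eq_true, if_false, pow_one]
    exact ⟨good_mmul hω gk (good_mmul hω hv.1 gk), by
      rw [el_mul hω gk (good_mmul hω hv.1 gk), el_mul hω hv.1 gk, hv.2, ← mul_assoc]⟩

theorem conj_x_cases (hF : Fintype.card F = 4) (hω : ω ^ 2 + ω + 1 = 0) (q : J3 F ω) :
    ∃ a < 6480, ∃ j < 28, ∃ e < 2, q * el ω xE * q⁻¹ = el ω (kM a) *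
      (el ω (rOf j) * (if e = 0 then el ω xE else (el ω xE)⁻¹) * (el ω (rOf j))⁻¹) * (el ω (kM a))⁻¹ := by
  obtain ⟨a, ha, j, hj, c, hc, rfl⟩ := exists_dc hω q
  rcases kM_conj hF hω hc with h | h
  · refine ⟨a, ha, j, hj, 0, by norm_num, ?_⟩
    rw [if_pos rfl]
    conv_rhs => rw [← h]
    group
  · refine ⟨a, ha, j, hj, 1, by norm_num, ?_⟩
    rw [if_neg one_ne_zero]
    conv_rhs => rw [← h]
    group

theorem x_u_good (hF : Fintype.card F = 4) (hω : ω ^ 2 + ω + 1 = 0) :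
    Good ω uE ∧ Good ω uI ∧ el ω uE = el ω (rOf 11) * el ω xE * (el ω (rOf 11))⁻¹ ∧
      el ω uI = el ω uE * el ω uE ∧
      Good ω u2E ∧ el ω u2E = el ω k0E * tauJ hω (el ω uE) * el ω k0E := by
  obtain ⟨h1, h2⟩ := candM_spec (F := F) hF hω (j := 11) (e := 0) (k := 0) (by norm_num) (by norm_num) (by norm_num)
  simp only [if_true, pow_zero, one_mul, mul_one] at h1 h2
  have gu : Good ω uE := h1
  obtain ⟨-, hxu, -, h9, -⟩ := tauRel_xu
  obtain ⟨gt, et⟩ := tauJ_el hω gu h9 hxu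
  obtain ⟨-, -, gk, -⟩ := xFacts (F := F) hF hω
  refine ⟨gu, good_mmul hω gu gu, h2, el_mul hω gu gu, good_mmul hω gk (good_mmul hω gt gk), ?_⟩
  rw [u2E, el_mul hω gk (good_mmul hω gt gk), el_mul hω gt gk, et, mul_assoc]

/-- `x` and `u` generate -/
theorem xu_top (hF : Fintype.card F = 4) (hω : ω ^ 2 + ω + 1 = 0) (H : Subgroup (J3 F ω))
    (hx : el ω xE ∈ H) (hu : el ω uE ∈ H) : H = ⊤ := by
  obtain ⟨gx, gi, -⟩ := xFacts (F := F) hF hω
  obtain ⟨gu, gui, -, eui, -⟩ := x_u_good (F := F) hF hω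
  have h := genOK_true
  simp only [genOK, Bool.and_eq_true, List.all_eq_true, List.mem_range, decide_eq_true_eq,
    beq_iff_eq] at h
  obtain ⟨⟨⟨⟨hlen, hw⟩, hg⟩, hsr⟩, hs⟩ := h
  have hms : ∀ M ∈ [xE, uE, xI, uI], Good ω M := by
    simp only [List.mem_cons, List.not_mem_nil, or_false, forall_eq_or_imp, forall_eq]
    exact ⟨gx, gu, gi, gui⟩
  have hmem : ∀ w, el ω (evalW [xE, uE, xI, uI] w) ∈ H := by
    intro w
    rw [(good_evalW hω hms w).2]
    refine Subgroup.list_prod_mem _ fun y hy => ?_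
    obtain ⟨i, -, rfl⟩ := List.mem_map.mp hy
    rw [List.getD_eq_getElem?_getD]
    cases hi : ([xE, uE, xI, uI].map (el ω))[i]? with
    | none => exact one_mem H
    | some z =>
      obtain ⟨M, hM, rfl⟩ := List.mem_map.mp (List.mem_of_getElem? hi)
      simp only [List.mem_cons, List.not_mem_nil, or_false] at hM
      rcases hM with rfl | rfl | rfl | rfl
      · exact hx
      · exact hu
      · rw [xI_eq_inv hF hω]; exact inv_mem hx
      · rw [eui]; exact mul_mem hu hu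
  have hidx : ∀ i < genIdx.length, el ω (kM (genIdx.getD i 0)) ∈ H := by
    intro i hi
    obtain ⟨hb, e⟩ := hw i (hlen ▸ hi)
    rw [← el_of_peq hω (good_evalW hω hms _).1 (good_kM hω hb) e]
    exact hmem _
  have hK : ∀ g < 3, el ω (gM g) ∈ H := by
    intro g hg3
    obtain ⟨hwl, e⟩ := hg g hg3
    have hgood : ∀ M ∈ genIdx.map kM, Good ω M := by
      intro M hM
      obtain ⟨a, ha, rfl⟩ := List.mem_map.mp hM
      obtain ⟨i, hi, rfl⟩ := List.getElem_of_mem ha
      have := (hw i (hlen ▸ hi)).1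
      rw [List.getD_eq_getElem _ _ hi] at this
      exact good_kM hω this
    rw [← el_of_peq hω (good_evalW hω hgood _).1 (good_gM hω (Nat.lt_trans hg3 (by norm_num : 3 < 4))) e,
      (good_evalW hω hgood _).2]
    refine Subgroup.list_prod_mem _ fun y hy => ?_
    obtain ⟨i, hi, rfl⟩ := List.mem_map.mp hy
    have hi' := hwl i hi
    rw [List.getD_eq_getElem _ _ (by simpa using hi'), List.getElem_map, List.getElem_map,
      ← List.getD_eq_getElem genIdx 0 hi']
    exact hidx i hi'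
  have hKa : ∀ a < 6480, el ω (kM a) ∈ H := by
    intro a ha
    obtain ⟨u, hu', hu''⟩ := kMat_mem (F := F) hω ha
    have key : Kgrp ω ≤ (H.comap (QuotientGroup.mk' (Subgroup.center (threeJ3 F ω)))).map
        (threeJ3 F ω).subtype := by
      refine (Subgroup.closure_le _).mpr ?_
      rintro _ ⟨g, hg', rfl⟩
      have hg4 : g < 4 := Nat.lt_trans hg' (by norm_num : 3 < 4)
      have hgm : genU ω g ∈ threeJ3 F ω := threeJ3_eq hω ▸ genU_mem_G hg4
      refine ⟨⟨_, hgm⟩, ?_, rfl⟩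
      rw [SetLike.mem_coe, Subgroup.mem_comap, QuotientGroup.mk'_apply]
      have := hK g hg'
      rwa [el_eq_mk hgm (genU_coe hω hg4)] at this
    obtain ⟨v, hv, e⟩ := key hu'
    have e' : v = ⟨u, threeJ3_eq hω ▸ Kgrp_le hu'⟩ := Subtype.ext e
    subst e'
    rw [el_eq_mk _ hu'']
    exact hv
  refine el_gens_top hω H fun g hg4 => ?_
  rcases Nat.lt_or_ge g 3 with h3 | h3
  · exact hK g h3
  · obtain rfl : g = 3 := by omega
    rw [← el_of_peq hω (good_mmul hω (good_evalW hω hms _).1 (good_kM hω hsr)) (good_gM hω (by norm_num)) hs,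
      el_mul hω (good_evalW hω hms _).1 (good_kM hω hsr)]
    exact mul_mem (hmem _) (hKa _ hsr)

/-- automorphisms agreeing on `x` and `u` are equal -/
theorem aut_ext (hF : Fintype.card F = 4) (hω : ω ^ 2 + ω + 1 = 0) {φ ψ : MulAut (J3 F ω)}
    (hx : φ (el ω xE) = ψ (el ω xE)) (hu : φ (el ω uE) = ψ (el ω uE)) : φ = ψ := by
  have h := xu_top hF hω (MonoidHom.eqLocus φ.toMonoidHom ψ.toMonoidHom) hx hu
  exact MulEquiv.ext fun q => (h.symm ▸ Subgroup.mem_top q : q ∈ MonoidHom.eqLocus φ.toMonoidHom ψ.toMonoidHom)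

/-- the outer automorphism fixing `x` -/
noncomputable def tauX' (hω : ω ^ 2 + ω + 1 = 0) : MulAut (J3 F ω) :=
  MulAut.conj (el ω k0E) * tauJ hω

theorem tauX'_apply (hF : Fintype.card F = 4) (hω : ω ^ 2 + ω + 1 = 0) :
    tauX' hω (el ω xE) = el ω xE ∧ tauX' hω (el ω uE) = el ω u2E := by
  obtain ⟨gx, gi, -, -, -, -, -, hk2, hkx, -⟩ := xFacts (F := F) hF hω
  obtain ⟨hxx, -, h9, -, hp⟩ := tauRel_xu
  obtain ⟨gt, et⟩ := tauJ_el hω gx h9 hxx
  obtain ⟨-, -, -, -, -, eu2⟩ := x_u_good (F := F) hF hω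
  have kinv : (el ω k0E)⁻¹ = el ω k0E := inv_eq_of_mul_eq_one_right hk2
  constructor
  · rw [tauX', MulAut.mul_apply, MulAut.conj_apply]
    rw [et, el_of_peq hω gt gi hp, ← hkx, kinv]
    rw [show el ω k0E * (el ω k0E * el ω xE * el ω k0E) * el ω k0E =
      (el ω k0E * el ω k0E) * el ω xE * (el ω k0E * el ω k0E) by group, hk2, one_mul, mul_one]
  · rw [tauX', MulAut.mul_apply, MulAut.conj_apply]
    rw [kinv, eu2]

theorem tauX'_not_inner (hF : Fintype.card F = 4) (hω : ω ^ 2 + ω + 1 = 0) (g : J3 F ω) :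
    MulAut.conj g ≠ tauX' hω := by
  intro e
  obtain ⟨ex, eu⟩ := tauX'_apply (F := F) hF hω
  obtain ⟨gx, gi, -⟩ := xFacts (F := F) hF hω
  obtain ⟨gu, -, -, -, gu2, -⟩ := x_u_good (F := F) hF hω
  have h1 : g * el ω xE * g⁻¹ = el ω xE := (DFunLike.congr_fun e _).trans ex
  have h2 : g * el ω uE * g⁻¹ = el ω u2E := (DFunLike.congr_fun e _).trans eu
  obtain ⟨a, ha, j, hj, c, hc, hg⟩ := exists_dc hω g
  have hj0 : j = 0 := by
    by_contra hj0
    have h := rInvOK_true
    simp only [rInvOK, List.all_eq_true, List.mem_range, Bool.and_eq_true, Bool.or_eq_true, beq_iff_eq,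
      Bool.not_eq_true'] at h
    obtain ⟨⟨h9, hm⟩, hne⟩ := h j hj
    obtain ⟨hn0, hn1⟩ := hne.resolve_left hj0
    obtain ⟨gr, er⟩ := good_inv hω (good_rOf (F := F) hω hj) h9 hm
    have gc := good_mmul hω (good_rOf (F := F) hω hj) (good_mmul hω gx gr)
    have ec : el ω (rConj j 0) = el ω (rOf j) * el ω xE * (el ω (rOf j))⁻¹ := by
      rw [show rConj j 0 = mmul (rOf j) (mmul xE (rInvM.getD j idM)) from rfl,
        el_mul hω (good_rOf hω hj) (good_mmul hω gx gr), el_mul hω gx gr, er, mul_assoc]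
    have n0 : el ω (rOf j) * el ω xE * (el ω (rOf j))⁻¹ ≠ el ω xE := ec ▸ el_ne_of_peq hF hω gc gx hn0
    have n1 : el ω (rOf j) * el ω xE * (el ω (rOf j))⁻¹ ≠ (el ω xE)⁻¹ := by
      rw [← xI_eq_inv hF hω, ← ec]; exact el_ne_of_peq hF hω gc gi hn1
    set A := el ω (kM a)
    set C := el ω (kM c)
    set R := el ω (rOf j)
    set X := el ω xE
    rw [hg] at h1
    have hA : A⁻¹ * X * A = X ∨ A⁻¹ * X * A = X⁻¹ := by
      rcases kM_conj hF hω ha with h | h
      · left; calc A⁻¹ * X * A = A⁻¹ * (A * X * A⁻¹) * A := by rw [h]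
          _ = X := by group
      · right; calc A⁻¹ * X * A = A⁻¹ * (A * X * A⁻¹)⁻¹ * A := by rw [h, inv_inv]
          _ = X⁻¹ := by group
    have key : R * (C * X * C⁻¹) * R⁻¹ = A⁻¹ * X * A := by
      conv_rhs => rw [← h1]
      group
    rcases kM_conj hF hω hc with hC | hC <;> rw [hC] at key <;> rcases hA with hA | hA <;> rw [hA] at key
    · exact n0 key
    · exact n1 key
    · exact n1 (by
        calc R * X * R⁻¹ = (R * X⁻¹ * R⁻¹)⁻¹ := by group
          _ = X⁻¹ := by rw [key])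
    · exact n0 (by
        calc R * X * R⁻¹ = (R * X⁻¹ * R⁻¹)⁻¹ := by group
          _ = X := by rw [key, inv_inv])
  subst hj0
  rw [zero_data.2.2, el_idM, mul_one] at hg
  obtain ⟨u, hu, hu'⟩ := kMat_mem (F := F) hω ha
  obtain ⟨v, hv, hv'⟩ := kMat_mem (F := F) hω hc
  obtain ⟨b, hb, hb'⟩ := mem_Kgrp hω (mul_mem hu hv)
  have hgb : g = el ω (kM b) := by
    rw [hg, el_eq_mk (threeJ3_eq hω ▸ Kgrp_le hu) hu', el_eq_mk (threeJ3_eq hω ▸ Kgrp_le hv) hv',
      el_eq_mk (threeJ3_eq hω ▸ Kgrp_le (mul_mem hu hv)) hb']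
    rfl
  have gb := good_kM (F := F) hω hb
  rw [hgb, mul_inv_eq_iff_eq_mul] at h1 h2
  have hscan : ∀ lo, notInnerOK lo 3240 = true → lo ≤ b → b < lo + 3240 → False := by
    intro lo h l1 l2
    simp only [notInnerOK, List.all_eq_true, List.mem_range'_1, Bool.or_eq_true, Bool.not_eq_true'] at h
    rcases h b ⟨l1, l2⟩ with h | h
    · exact el_ne_of_peq hF hω (good_mmul hω gb gx) (good_mmul hω gx gb) h
        (by rw [el_mul hω gb gx, el_mul hω gx gb, h1])
    · exact el_ne_of_peq hF hω (good_mmul hω gb gu) (good_mmul hω gu2 gb) h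
        (by rw [el_mul hω gb gu, el_mul hω gu2 gb, h2])
  rcases Nat.lt_or_ge b 3240 with h | h
  · exact hscan 0 notInnerA (Nat.zero_le b) (by omega)
  · exact hscan 3240 notInnerB h (by omega)

theorem fix_x_cases (hF : Fintype.card F = 4) (hω : ω ^ 2 + ω + 1 = 0) (ψ : MulAut (J3 F ω))
    (hψ : ψ (el ω xE) = el ω xE) :
    ∃ c : J3 F ω, MulAut.conj c * ψ = 1 ∨ MulAut.conj c * ψ = tauX' hω := by
  obtain ⟨gx, gi, gk, -, -, -, -, hk2, hkx, -⟩ := xFacts (F := F) hF hω
  obtain ⟨gu, gui, eu, eui, gu2, -⟩ := x_u_good (F := F) hF hω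
  have hinv := xI_eq_inv (F := F) hF hω
  obtain ⟨ex, et⟩ := tauX'_apply (F := F) hF hω
  set X := el ω xE with hX
  have kinv : (el ω k0E)⁻¹ = el ω k0E := inv_eq_of_mul_eq_one_right hk2
  -- bring the image of `u` to a candidate
  obtain ⟨n, hn, gc, c₁, hc₁x, hc₁u⟩ : ∃ n < 112, Good ω (candM n) ∧ ∃ c₁ : J3 F ω,
      c₁ * X * c₁⁻¹ = X ∧ c₁ * ψ (el ω uE) * c₁⁻¹ = el ω (candM n) := by
    have hu : ψ (el ω uE) = ψ (el ω (rOf 11)) * X * (ψ (el ω (rOf 11)))⁻¹ := by
      rw [eu, map_mul, map_mul, map_inv, hψ]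
    obtain ⟨a, ha, j, hj, e, he, hh⟩ := conj_x_cases hF hω (ψ (el ω (rOf 11)))
    rw [← hu] at hh
    set A := el ω (kM a)
    rcases kM_conj hF hω ha with h | h
    · obtain ⟨g', eg⟩ := candM_spec (F := F) hF hω (k := 0) hj he (by norm_num)
      refine ⟨_, by omega, g', A⁻¹, ?_, ?_⟩
      · calc A⁻¹ * X * A⁻¹⁻¹ = A⁻¹ * (A * X * A⁻¹) * A := by rw [h, inv_inv]
          _ = X := by group
      · rw [eg, hh, pow_zero, one_mul, mul_one]
        group
    · obtain ⟨g', eg⟩ := candM_spec (F := F) hF hω (k := 1) hj he (by norm_num)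
      refine ⟨_, by omega, g', el ω k0E * A⁻¹, ?_, ?_⟩
      · have h' : A⁻¹ * X * A = X⁻¹ := by
          calc A⁻¹ * X * A = A⁻¹ * (A * X * A⁻¹)⁻¹ * A := by rw [h, inv_inv]
            _ = X⁻¹ := by group
        calc el ω k0E * A⁻¹ * X * (el ω k0E * A⁻¹)⁻¹
            = el ω k0E * (A⁻¹ * X * A) * (el ω k0E)⁻¹ := by group
          _ = (el ω k0E * X * (el ω k0E)⁻¹)⁻¹ := by rw [h']; group
          _ = X := by rw [kinv, hkx, hinv, inv_inv]
      · rw [eg, hh, pow_one, ← hX]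
        calc el ω k0E * A⁻¹ * (A * (el ω (rOf j) * _ * (el ω (rOf j))⁻¹) * A⁻¹) * (el ω k0E * A⁻¹)⁻¹
            = el ω k0E * (el ω (rOf j) * (if e = 0 then X else X⁻¹) * (el ω (rOf j))⁻¹) * (el ω k0E)⁻¹ := by
              group
          _ = _ := by rw [kinv]
  set ψ₁ : MulAut (J3 F ω) := MulAut.conj c₁ * ψ with hψ₁
  have h1x : ψ₁ X = X := by rw [hψ₁, MulAut.mul_apply, hψ]; exact hc₁x
  have h1u : ψ₁ (el ω uE) = el ω (candM n) := hc₁u
  have hrow := List.all_eq_true.mp candOK_true n (List.mem_range.mpr hn)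
  generalize hr : candRows.getD n (2, 0, 0, 0) = t at *
  obtain ⟨k, p1, p2, p3⟩ := t
  simp only [candOK, hr] at hrow
  match k, hrow with
  | 0, hrow =>
    exfalso
    simp only [Bool.and_eq_true, decide_eq_true_eq] at hrow
    obtain ⟨-, e1, e2⟩ := hrow
    set w := outWords.getD p1 []
    have hgood : ∀ v, Good ω v → ∀ M ∈ [xE, v, xI, mmul v v], Good ω M := by
      intro v hv
      simp only [List.mem_cons, List.not_mem_nil, or_false, forall_eq_or_imp, forall_eq]
      exact ⟨gx, hv, gi, good_mmul hω hv hv⟩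
    have hev : ∀ v, Good ω v → Good ω (mpow (evalW [xE, v, xI, mmul v v] w) p2) ∧
        el ω (mpow (evalW [xE, v, xI, mmul v v] w) p2) =
          ((w.map fun i => [X, el ω v, X⁻¹, el ω v * el ω v].getD i 1).prod) ^ p2 := by
      intro v hv
      obtain ⟨g1, g2⟩ := good_evalW hω (hgood v hv) w
      obtain ⟨g3, g4⟩ := good_mpow hω g1 p2
      refine ⟨g3, ?_⟩
      rw [g4, g2]
      congr 3
      funext i
      simp only [List.map_cons, List.map_nil, el_mul hω hv hv, hinv, hX]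
    obtain ⟨gU, eU⟩ := hev uE gu
    obtain ⟨gV, eV⟩ := hev _ gc
    have himg : ψ₁ (el ω (mpow (evalW [xE, uE, xI, mmul uE uE] w) p2)) =
        el ω (mpow (evalW [xE, candM n, xI, mmul (candM n) (candM n)] w) p2) := by
      rw [eU, eV, map_pow, map_list_prod, List.map_map]
      congr 2
      refine List.map_congr_left fun i _ => ?_
      simp only [Function.comp_apply]
      rcases i with _ | _ | _ | _ | i <;> simp [h1x, h1u]
    by_cases hs : p3 = 0
    · have a1 : peq (mpow (evalW [xE, candM n, xI, mmul (candM n) (candM n)] w) p2) idM = true := by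
        simpa [hs] using e1
      have a2 : peq (mpow (evalW [xE, uE, xI, mmul uE uE] w) p2) idM = false := by
        simpa [hs] using e2
      refine el_ne_of_peq hF hω gU good_idM a2 (ψ₁.injective ?_)
      rw [himg, el_of_peq hω gV good_idM a1, el_idM, map_one]
    · have a1 : peq (mpow (evalW [xE, candM n, xI, mmul (candM n) (candM n)] w) p2) idM = false := by
        simpa [beq_iff_eq, beq_false_of_ne hs, hs] using e1
      have a2 : peq (mpow (evalW [xE, uE, xI, mmul uE uE] w) p2) idM = true := by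
        simpa [beq_iff_eq, beq_false_of_ne hs, hs] using e2
      refine el_ne_of_peq hF hω gV good_idM a1 ?_
      rw [← himg, el_of_peq hω gU good_idM a2, el_idM, map_one]
  | 1, hrow =>
    simp only [Bool.and_eq_true, decide_eq_true_eq] at hrow
    obtain ⟨⟨⟨⟨ha, hb⟩, hab⟩, hax⟩, hau⟩ := hrow
    have ga := good_kM (F := F) hω ha
    have gb := good_kM (F := F) hω hb
    set A := el ω (kM p2)
    have eB : el ω (kM p3) = A⁻¹ := by
      refine eq_inv_of_mul_eq_one_right ?_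
      rw [← el_mul hω ga gb, el_of_peq hω (good_mmul hω ga gb) good_idM hab, el_idM]
    have eX : A * X * A⁻¹ = X := by
      have := el_of_peq (F := F) hω (good_mmul hω ga (good_mmul hω gx gb)) gx hax
      rwa [el_mul hω ga (good_mmul hω gx gb), el_mul hω gx gb, eB, ← mul_assoc] at this
    refine ⟨A * c₁, ?_⟩
    rw [map_mul, mul_assoc]
    by_cases hl : p1 = 0
    · left
      have := el_of_peq (F := F) hω (good_mmul hω ga (good_mmul hω gc gb)) gu (by simpa [hl] using hau)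
      rw [el_mul hω ga (good_mmul hω gc gb), el_mul hω gc gb, eB, ← mul_assoc] at this
      refine aut_ext hF hω ?_ ?_
      · rw [MulAut.mul_apply, h1x, MulAut.one_apply]; exact eX
      · rw [MulAut.mul_apply, h1u, MulAut.one_apply]; exact this
    · right
      have := el_of_peq (F := F) hω (good_mmul hω ga (good_mmul hω gc gb)) gu2 (by simpa [hl] using hau)
      rw [el_mul hω ga (good_mmul hω gc gb), el_mul hω gc gb, eB, ← mul_assoc] at this
      refine aut_ext hF hω ?_ ?_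
      · rw [MulAut.mul_apply, h1x, ex]; exact eX
      · rw [MulAut.mul_apply, h1u, et]; exact this

theorem card_out_J3 (hF : Fintype.card F = 4) (hω : ω ^ 2 + ω + 1 = 0) :
    Nat.card (Cfsg.Out (J3 F ω)) = 2 := by
  refine Nat.card_eq_two_iff.mpr ⟨1, QuotientGroup.mk (tauX' hω), fun h => ?_, ?_⟩
  · obtain ⟨g, hg⟩ := (QuotientGroup.eq_one_iff _).mp h.symm
    exact tauX'_not_inner hF hω g hg
  · refine Set.eq_univ_iff_forall.mpr fun q => ?_
    obtain ⟨φ, rfl⟩ := QuotientGroup.mk_surjective q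
    obtain ⟨-, -, -, -, -, hx3, hx1, hk2, hkx, hf5, hf1, hfx⟩ := xFacts (F := F) hF hω
    have hinv := xI_eq_inv (F := F) hF hω
    set X := el ω xE
    obtain ⟨g, hg⟩ := three_five_conj hF hω (y := φ X) (f := φ (el ω fE))
      (by rw [← map_pow, hx3, map_one]) (by simpa using hx1)
      (by rw [← map_pow, hf5, map_one]) (by simpa using hf1) (by rw [← map_mul, ← map_mul, hfx])
    obtain ⟨d, hd⟩ : ∃ d : J3 F ω, (MulAut.conj d * φ) X = X := by
      rcases hg with h | h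
      · exact ⟨g, by rw [MulAut.mul_apply, MulAut.conj_apply]; exact h⟩
      · refine ⟨el ω k0E * g, ?_⟩
        have kinv : (el ω k0E)⁻¹ = el ω k0E := inv_eq_of_mul_eq_one_right hk2
        rw [MulAut.mul_apply, MulAut.conj_apply]
        calc el ω k0E * g * φ X * (el ω k0E * g)⁻¹ = el ω k0E * (g * φ X * g⁻¹) * (el ω k0E)⁻¹ := by group
          _ = (el ω k0E * X * (el ω k0E)⁻¹)⁻¹ := by rw [h]; simp only [X]; group
          _ = X := by rw [kinv, hkx, hinv, inv_inv]
    obtain ⟨c, hc⟩ := fix_x_cases hF hω _ hd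
    rw [← mul_assoc, ← map_mul] at hc
    rcases hc with h | h
    · refine Or.inl ((QuotientGroup.eq_one_iff φ).mpr ⟨(c * d)⁻¹, ?_⟩)
      rw [map_inv]
      exact (eq_inv_of_mul_eq_one_right h).symm
    · refine Or.inr ?_
      rw [Set.mem_singleton_iff, QuotientGroup.eq]
      refine ⟨φ.symm (c * d), ?_⟩
      rw [← h]
      refine MulEquiv.ext fun z => ?_
      simp [MulAut.mul_apply, MulAut.conj_apply]

end CfsgLib.J3
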