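import Mathlib.Data.Nat.Notation

/-!
Data for the outer automorphism group of the third Janko group.
-/

set_option autoImplicit false

namespace CfsgLib.J3

/-- The central element of order three of the point stabiliser -/
def xA : ℕ := 33

/-- An involution inverting it -/
def k0A : ℕ := 324

/-- An element of order five with a unique fixed point -/
def fA : ℕ := 179

/-- Inverse representatives -/
def rInvM : List (List ℕ) := [
  [1, 2, 4, 8, 16, 32, 64, 128, 256],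
  [64, 128, 256, 1, 2, 4, 8, 8208, 16384],
  [385, 24596, 24594, 64, 137, 265, 392, 3110, 3088],
  [24594, 392, 137, 64, 24596, 8214, 16390, 135945, 197120],
  [8214, 137, 385, 64, 24594, 16390, 24596, 201096, 135680],
  [137, 16390, 24596, 64, 392, 385, 265, 11270, 17456],
  [196616, 22, 16422, 32768, 135425, 69761, 896, 9248, 16436],
  [265, 24594, 8214, 64, 385, 392, 137, 10276, 19488],
  [24596, 265, 392, 64, 16390, 24594, 8214, 197505, 70144],
  [16422, 896, 135425, 32768, 22, 26644, 25618, 66057, 201088],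
  [155552, 243812, 60500, 197120, 24751, 147334, 160559, 10666, 210410],
  [60500, 160559, 24751, 197120, 243812, 250992, 228372, 199833, 73519],
  [152207, 252344, 60434, 197505, 24729, 144031, 160272, 209956, 57818],
  [94493, 16647, 16846, 24594, 78111, 152331, 213506, 106223, 164352],
  [152331, 16846, 321, 24594, 94493, 213506, 78111, 134951, 122400],
  [147974, 16651, 213891, 17456, 89833, 220648, 33025, 154545, 205470],
  [16591, 94493, 152331, 24594, 321, 16647, 16846, 147335, 214945],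
  [78111, 16591, 16647, 24594, 213506, 94493, 152331, 164673, 252960],
  [213891, 33025, 89833, 17456, 16651, 81167, 80173, 249926, 151329],
  [27917, 236582, 164489, 9250, 24732, 28037, 3224, 90024, 49359],
  [224167, 200905, 19689, 17456, 145213, 138904, 221981, 236974, 220329],
  [94613, 151464, 253416, 17456, 81287, 155154, 216979, 49295, 70465],
  [24797, 143892, 82830, 8214, 24860, 328, 25045, 210948, 153265],
  [25045, 91034, 209308, 8214, 328, 24860, 24797, 204079, 138009],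
  [43493, 75563, 227330, 3088, 103361, 80805, 113252, 152462, 27965],
  [210339, 11380, 160340, 70144, 16270, 216596, 26030, 171823, 146996],
  [28592, 210600, 158621, 4488, 17382, 229911, 35894, 134665, 72833],
  [25989, 16525, 24795, 265, 25996, 10285, 19497, 114383, 51232]]

/-- One row for each candidate -/
def candRows : List (ℕ × ℕ × ℕ × ℕ) := [
  (0, 0, 19, 1), (0, 0, 1, 0), (0, 0, 1, 0), (0, 0, 19, 1), (0, 0, 19, 1), (0, 0, 19, 1),
  (0, 0, 19, 1), (0, 0, 19, 1), (0, 0, 19, 1), (0, 0, 19, 1), (0, 0, 19, 1), (0, 0, 19, 1),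
  (0, 0, 19, 1), (0, 0, 19, 1), (0, 0, 19, 1), (0, 0, 19, 1), (0, 0, 19, 1), (0, 0, 19, 1),
  (0, 0, 19, 1), (0, 0, 19, 1), (0, 0, 19, 1), (0, 0, 19, 1), (0, 0, 19, 1), (0, 0, 19, 1),
  (0, 0, 19, 1), (0, 0, 19, 1), (0, 0, 19, 1), (0, 0, 19, 1), (0, 0, 19, 1), (0, 0, 19, 1),
  (0, 0, 19, 1), (0, 0, 19, 1), (0, 0, 19, 1), (0, 0, 19, 1), (0, 0, 19, 1), (0, 0, 19, 1),
  (0, 0, 19, 1), (0, 0, 19, 1), (0, 0, 19, 1), (0, 0, 19, 1), (0, 0, 19, 1), (0, 0, 19, 1),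
  (0, 0, 19, 1), (0, 0, 19, 1), (1, 0, 0, 0), (0, 0, 19, 1), (0, 0, 19, 1), (1, 1, 0, 0),
  (0, 0, 19, 1), (0, 0, 19, 1), (0, 0, 19, 1), (0, 0, 19, 1), (0, 1, 9, 1), (0, 0, 19, 1),
  (0, 0, 19, 1), (0, 1, 9, 1), (0, 0, 19, 1), (0, 0, 19, 1), (0, 0, 19, 1), (0, 0, 19, 1),
  (0, 0, 19, 1), (0, 0, 19, 1), (0, 0, 19, 1), (0, 0, 19, 1), (0, 0, 19, 1), (0, 0, 19, 1),
  (0, 0, 19, 1), (0, 0, 19, 1), (0, 0, 19, 1), (0, 0, 19, 1), (0, 0, 19, 1), (0, 0, 19, 1),
  (0, 0, 19, 1), (0, 0, 19, 1), (0, 0, 19, 1), (0, 0, 19, 1), (0, 0, 19, 1), (0, 0, 19, 1),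
  (0, 0, 19, 1), (0, 0, 19, 1), (0, 0, 19, 1), (0, 0, 19, 1), (0, 0, 19, 1), (0, 0, 19, 1),
  (0, 0, 19, 1), (0, 0, 19, 1), (0, 0, 19, 1), (0, 0, 19, 1), (0, 0, 19, 1), (0, 0, 19, 1),
  (0, 0, 19, 1), (0, 0, 19, 1), (0, 0, 19, 1), (0, 0, 19, 1), (0, 0, 19, 1), (0, 0, 19, 1),
  (0, 0, 19, 1), (0, 0, 19, 1), (0, 0, 19, 1), (0, 0, 19, 1), (0, 0, 19, 1), (0, 0, 19, 1),
  (0, 0, 19, 1), (0, 0, 19, 1), (0, 0, 19, 1), (0, 0, 19, 1), (0, 0, 19, 1), (0, 0, 19, 1),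
  (0, 0, 19, 1), (0, 0, 19, 1), (0, 0, 19, 1), (0, 0, 19, 1)]

/-- Words -/
def outWords : List (List ℕ) := [[0, 1], [0, 3], [0, 1, 2, 3], [0, 1, 0, 1, 0, 3], [0, 1, 2, 1, 0, 3], [2, 1, 0, 3, 0, 1, 1], [0, 1, 0, 1, 2, 3], [0, 1, 1, 0, 2, 1], [0, 1, 0, 3, 2, 3, 2, 1]]

/-- Words lying in the point stabiliser -/
def genWords : List (List ℕ) := [[1, 3, 0, 1, 0, 0, 2, 2, 3, 0, 2, 2, 0], [3, 0, 0, 2, 0, 3, 2, 3, 2, 1, 1, 2, 3, 3, 1, 2, 3, 2, 1, 2, 3, 2, 3, 0, 2, 2], [1, 0, 1, 0, 1, 1, 3, 0, 1, 0, 1, 0, 3, 2, 0, 3, 0, 3, 2, 2, 3, 1, 1, 3, 1, 0, 1], [1, 2, 0, 0, 0, 1, 0, 3, 2, 2, 3, 2, 0, 2, 3, 0, 1, 0, 3, 0, 0, 3, 2, 3, 0]]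

/-- Their values -/
def genIdx : List ℕ := [33, 749, 4462, 6458]

/-- The first generators as words in them -/
def genKWords : List (List ℕ) := [[1, 2, 3, 3, 2, 3, 2, 3, 3], [2, 3, 2, 1, 3, 2, 1, 3, 3], [3, 3, 2, 3, 2, 3, 2, 1, 3, 3]]

/-- A word equal to the fourth generator up to the point stabiliser -/
def sWord : List ℕ := [1, 0, 3, 0, 3, 2, 1, 0, 1, 2, 3, 0, 3, 2, 1, 0, 1]

/-- The remaining factor -/
def sRest : ℕ := 5674

/-- Images of the generators under the outer automorphism -/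
def tauGens : List (List ℕ) := [
  [513, 1024, 2048, 8, 8208, 16416, 32832, 65536, 131072],
  [1, 16, 256, 32, 64, 2, 128, 4, 8],
  [1, 74, 76, 70, 304, 176, 14, 416, 400],
  [8, 16, 32, 64, 65536, 131328, 1, 2, 4]]

/-- Their decompositions -/
def tauDec : List ℕ := [1310720, 148635648, 42467328, 8192]

/-- Image of the element of order three -/
def tauX : List ℕ := [513, 2, 4, 8, 8192, 16384, 64, 65536, 131072]

/-- Image of the second element -/
def tauU : List ℕ := [68871, 184997, 210779, 204042, 2324, 66594, 199106, 171371, 46788]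

end CfsgLib.J3
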