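import Cfsg.Agent.Lib.J3.ElemDefs
import Cfsg.Agent.Lib.J3.OrbitDefs
import Cfsg.Agent.Lib.J3.OutData

/-!
Finite statements for the outer automorphism group of the third Janko group.
-/

set_option autoImplicit false

namespace CfsgLib.J3

/-- the element of order three -/
def xE : List ℕ := kM xA

/-- its inverse -/
def xI : List ℕ := mmul xE xE

/-- an involution inverting it -/
def k0E : List ℕ := kM k0A

/-- an element of order five -/
def fE : List ℕ := kM fA

/-- conjugate by a representative -/
def rConj (j e : ℕ) : List ℕ :=
  mmul (rOf j) (mmul (if e == 0 then xE else xI) (rInvM.getD j idM))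

/-- candidate -/
def candM (n : ℕ) : List ℕ :=
  let v := rConj (n / 4) (n / 2 % 2)
  if n % 2 == 0 then v else mmul k0E (mmul v k0E)

/-- the second element -/
def uE : List ℕ := candM 44

/-- its inverse -/
def uI : List ℕ := mmul uE uE

/-- its image under the outer automorphism fixing `x` -/
def u2E : List ℕ := mmul k0E (mmul tauU k0E)

/-- the stabiliser element data -/
def xOK : Bool :=
  decide (xA < 6480) && decide (k0A < 6480) && decide (fA < 6480) &&
    mpow xE 3 == idM && !peq xE idM && mmul k0E k0E == idM && peq (mmul k0E (mmul xE k0E)) xI &&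
    ((List.range 3).all fun g =>
      peq (mmul (gM g) xE) (mmul xE (gM g)) || peq (mmul (gM g) xE) (mmul xI (gM g))) &&
    mpow fE 5 == idM && !peq fE idM && peq (mmul fE xE) (mmul xE fE)

/-- the representatives -/
def rInvOK : Bool :=
  (List.range 28).all fun j =>
    is9 (rInvM.getD j idM) && mmul (rOf j) (rInvM.getD j idM) == idM &&
      (j == 0 || (!peq (rConj j 0) xE && !peq (rConj j 0) xI))

/-- elements of order three centralising `f` in a range -/
def cFiveOK (lo n : ℕ) : Bool :=
  (List.range' lo n).all fun a =>
    let M := kM a
    !(peq (mmul M fE) (mmul fE M)) || !(peq (mpow M 3) idM) || peq M idM || peq M xE || peq M xI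

/-- `f` has one fixed point in a range -/
def fFixOK (lo n : ℕ) : Bool :=
  (List.range' lo n).all fun i => i == 0 || normV (app fE (oCode i)) != oCode i

/-- the outer automorphism is not induced from a range -/
def notInnerOK (lo n : ℕ) : Bool :=
  (List.range' lo n).all fun a =>
    let M := kM a
    !(peq (mmul M xE) (mmul xE M)) || !(peq (mmul M uE) (mmul u2E M))

/-- one candidate -/
def candOK (n : ℕ) : Bool :=
  match candRows.getD n (2, 0, 0, 0) with
  | (0, w, m, s) =>
    decide (w < outWords.length) &&
      let ev := fun v => mpow (evalW [xE, v, xI, mmul v v] (outWords.getD w [])) m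
      (peq (ev (candM n)) idM == (s == 0)) && (peq (ev uE) idM == !(s == 0))
  | (1, l, a, b) =>
    decide (a < 6480) && decide (b < 6480) && peq (mmul (kM a) (kM b)) idM &&
      peq (mmul (kM a) (mmul xE (kM b))) xE &&
      peq (mmul (kM a) (mmul (candM n) (kM b))) (if l == 0 then uE else u2E)
  | _ => false

/-- generation -/
def genOK : Bool :=
  genWords.length == genIdx.length &&
  ((List.range genWords.length).all fun i =>
    decide (genIdx.getD i 0 < 6480) &&
      peq (evalW [xE, uE, xI, uI] (genWords.getD i [])) (kM (genIdx.getD i 0))) &&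
  ((List.range 3).all fun g =>
    let w := genKWords.getD g []
    w.all (fun i => decide (i < genIdx.length)) && peq (evalW (genIdx.map kM) w) (gM g)) &&
  decide (sRest < 6480) && peq (mmul (evalW [xE, uE, xI, uI] sWord) (kM sRest)) (gM 3)

/-- the images of the generators -/
def tauDecOK : Bool :=
  tauGens.length == 4 && (List.range 4).all fun g =>
    dcLt (tauDec.getD g 0) && dcM (tauDec.getD g 0) == tauGens.getD g idM

end CfsgLib.J3
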