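import Cfsg.Agent.Lib.J3.ElemDefs
import Cfsg.Agent.Lib.J3.SixData

/-!
Finite statements for a subgroup of order 8160 of the third Janko group.
-/

set_option autoImplicit false

namespace CfsgLib.J3

/-- generator -/
def sxG (g : ℕ) : List ℕ := sixGen.getD g idM

/-- coset representative -/
def sxU (n : ℕ) : List ℕ := sixU.getD n idM

/-- element of the stabiliser -/
def sxD (i : ℕ) : List ℕ := kM (sixD.getD i 0)

/-- the generators and representatives -/
def sixOrbOK : Bool :=
  sixPt.length == 136 && decide sixPt.Nodup && sxU 0 == idM &&
  ((List.range 2).all fun g => dcLt (sixGenDec.getD g 0) && dcM (sixGenDec.getD g 0) == sxG g) &&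
  ((List.range 135).all fun t =>
    let p := sixTree.getD t (0, 0)
    decide (p.1 < 2) && decide (p.2 < t + 1) && mmul (sxG p.1) (sxU p.2) == sxU (t + 1)) &&
  (List.range 136).all fun n => normV (app (sxU n) 1) == sixPt.getD n 0

/-- the stabiliser -/
def sixStabOK : Bool :=
  sixD.getD 0 1 == 0 &&
  ((List.range 60).all fun i =>
    decide (sixD.getD i 0 < 6480) &&
      (sixDWord.getD i []).all (fun j => decide (j < 2)) &&
      peq (evalW [sxG 0, sxG 1] (sixDWord.getD i [])) (sxD i)) &&
  ((List.range 60).all fun i => (List.range 60).all fun j =>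
    let k := (sixMul.getD i []).getD j 0
    decide (k < 60) && peq (mmul (sxD i) (sxD j)) (sxD k)) &&
  (List.range 60).all fun i => (List.range i).all fun j => !peq (sxD i) (sxD j)

/-- the action of the generators on the cosets -/
def sixStepOK : Bool :=
  (List.range 2).all fun g => (List.range 136).all fun n =>
    let p := (sixStep.getD g []).getD n (0, 0)
    decide (p.1 < 136) && decide (p.2 < 60) &&
      peq (mmul (sxG g) (sxU n)) (mmul (sxU p.1) (sxD p.2))

theorem sixOrbOK_true : sixOrbOK = true := by decide +kernel
theorem sixStabOK_true : sixStabOK = true := by decide +kernel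
theorem sixStepOK_true : sixStepOK = true := by decide +kernel

end CfsgLib.J3
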