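import Cfsg.Prelude.Def_SporadicB
import Cfsg.Prelude.Def_Sporadic
import Cfsg.Agent.Lib.J3.CentCount
import Cfsg.Agent.Lib.J3.Field
import Cfsg.Agent.Lib.J3.SixDefs

/-!
The third Janko group as a transitive group of degree 6156.
-/

set_option autoImplicit false
set_option maxRecDepth 4000
set_option linter.unusedSectionVars false
set_option linter.unusedVariables false
set_option linter.style.haveILetI false

namespace CfsgLib.J3

open Cfsg.Spor
open scoped Matrix

variable {F : Type*} [Field F] [CharP F 2] [Fintype F] {ω : F}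

attribute [local irreducible] el mmul peq sxG sxU sxD kM dcM app idM evalW

theorem oCode_pt (hω : ω ^ 2 + ω + 1 = 0) {M : List ℕ} (hM : Good ω M) :
    oCode (pt hω (el ω M)) = normV (app M 1) := by
  obtain ⟨u, hu, hu'⟩ := hM.mem
  rw [el_eq_mk hu hu']
  have h1 := pt_spec hω ⟨u, hu⟩
  have h2 := hasMat_app hω hM.len hu' 1
  rw [toVec_one] at h2
  obtain ⟨c, hc, e⟩ := h2.symm.trans h1
  have hlt := app_lt hM.bnd 1
  have e' := normV_eq hω (show normV (app M 1) < 262144 from normFrom_lt 9 0 _ hlt) (oCode_lt _) hc e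
  rw [normV_idem hω hlt, oCode_normal hω (pt hω _).isLt] at e'
  exact e'.symm

theorem sxG_good (hω : ω ^ 2 + ω + 1 = 0) {g : ℕ} (hg : g < 2) : Good ω (sxG g) := by
  have h := sixOrbOK_true
  simp only [sixOrbOK, Bool.and_eq_true, List.all_eq_true, List.mem_range, beq_iff_eq] at h
  obtain ⟨hd, e⟩ := h.1.1.2 g hg
  exact e ▸ good_dcM (F := F) hω hd

/-- the subgroup of order 8160 -/
noncomputable def LJ (ω : F) : Subgroup (J3 F ω) :=
  Subgroup.closure {x | ∃ g, g < 2 ∧ x = el ω (sxG g)}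

theorem sxU_spec (hω : ω ^ 2 + ω + 1 = 0) : ∀ n < 136, Good ω (sxU n) ∧ el ω (sxU n) ∈ LJ ω := by
  have h := sixOrbOK_true
  simp only [sixOrbOK, Bool.and_eq_true, List.all_eq_true, List.mem_range, beq_iff_eq,
    decide_eq_true_eq] at h
  intro n
  induction n using Nat.strong_induction_on with
  | _ n ih =>
    intro hn
    rcases n with _ | n
    · rw [h.1.1.1.2, el_idM]
      exact ⟨good_idM, one_mem _⟩
    · obtain ⟨⟨hg, hlt⟩, e⟩ := h.1.2 n (by omega)
      obtain ⟨gu, mu⟩ := ih _ hlt (by omega)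
      have gg := sxG_good (F := F) hω hg
      rw [← e, el_mul hω gg gu]
      exact ⟨good_mmul hω gg gu, mul_mem (Subgroup.subset_closure ⟨_, hg, rfl⟩) mu⟩

theorem sxD_spec (hω : ω ^ 2 + ω + 1 = 0) : ∀ i < 60,
    Good ω (sxD i) ∧ el ω (sxD i) ∈ LJ ω ∧ el ω (sxD i) ∈ Kbar ω := by
  intro i hi
  have h := sixStabOK_true
  simp only [sixStabOK, Bool.and_eq_true, List.all_eq_true, List.mem_range, beq_iff_eq,
    decide_eq_true_eq] at h
  obtain ⟨⟨ha, hw⟩, hp⟩ := h.1.1.2 i hi
  have gd : Good ω (sxD i) := by rw [sxD]; exact good_kM hω ha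
  refine ⟨gd, ?_, (mem_Kbar hω).mpr ⟨_, ha, by rw [sxD]⟩⟩
  have hms : ∀ M ∈ [sxG 0, sxG 1], Good ω M := by
    intro M hM
    simp only [List.mem_cons, List.not_mem_nil, or_false] at hM
    rcases hM with rfl | rfl
    · exact sxG_good hω (by norm_num)
    · exact sxG_good hω (by norm_num)
  obtain ⟨ge, ee⟩ := good_evalW (F := F) hω hms (sixDWord.getD i [])
  rw [← el_of_peq hω ge gd hp, ee]
  refine Subgroup.list_prod_mem _ fun x hx => ?_
  obtain ⟨j, hj, rfl⟩ := List.mem_map.mp hx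
  have hj2 := hw j hj
  interval_cases j
  · exact Subgroup.subset_closure ⟨0, by norm_num, rfl⟩
  · exact Subgroup.subset_closure ⟨1, by norm_num, rfl⟩

theorem mem_LJ (hF : Fintype.card F = 4) (hω : ω ^ 2 + ω + 1 = 0) {x : J3 F ω} (hx : x ∈ LJ ω) :
    ∃ n < 136, ∃ i < 60, x = el ω (sxU n) * el ω (sxD i) := by
  haveI := finite_J3 hF hω
  have h0 := sixOrbOK_true
  simp only [sixOrbOK, Bool.and_eq_true, beq_iff_eq] at h0
  have hs := sixStabOK_true
  simp only [sixStabOK, Bool.and_eq_true, List.all_eq_true, List.mem_range, beq_iff_eq,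
    decide_eq_true_eq] at hs
  have hd0 : sixD.getD 0 0 = 0 := by
    rcases hsD : sixD with _ | ⟨a, l⟩
    · rfl
    · have := hs.1.1.1
      rw [hsD] at this
      simpa using this
  refine finite_closure_mul_induction (P := fun x => ∃ n < 136, ∃ i < 60, x = el ω (sxU n) * el ω (sxD i))
    ⟨0, by norm_num, 0, by norm_num, by rw [h0.1.1.1.2, sxD, hd0, kM_zero, el_idM, one_mul]⟩ ?_ hx
  rintro _ ⟨g, hg, rfl⟩ y ⟨n, hn, i, hi, rfl⟩
  have ht := sixStepOK_true
  simp only [sixStepOK, Bool.and_eq_true, List.all_eq_true, List.mem_range, decide_eq_true_eq] at ht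
  obtain ⟨⟨hm, hj⟩, e⟩ := ht g hg n hn
  obtain ⟨hk, e2⟩ := hs.1.2 _ hj i hi
  refine ⟨_, hm, _, hk, ?_⟩
  have gg := sxG_good (F := F) hω hg
  have gu := (sxU_spec (F := F) hω n hn).1
  have gm := (sxU_spec (F := F) hω _ hm).1
  have gj := (sxD_spec (F := F) hω _ hj).1
  have gi := (sxD_spec (F := F) hω i hi).1
  rw [← mul_assoc, ← el_mul hω gg gu, el_of_peq hω (good_mmul hω gg gu) (good_mmul hω gm gj) e,
    el_mul hω gm gj, mul_assoc, ← el_mul hω gj gi,
    el_of_peq hω (good_mmul hω gj gi) (sxD_spec (F := F) hω _ hk).1 e2]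

theorem card_LJ (hF : Fintype.card F = 4) (hω : ω ^ 2 + ω + 1 = 0) : Nat.card (LJ ω) = 8160 := by
  have hm : ∀ p : Fin 136 × Fin 60, el ω (sxU p.1) * el ω (sxD p.2) ∈ LJ ω := fun p =>
    mul_mem (sxU_spec hω _ p.1.isLt).2 (sxD_spec hω _ p.2.isLt).2.1
  have hb : Function.Bijective fun p => (⟨_, hm p⟩ : LJ ω) := by
    constructor
    · rintro ⟨m, i⟩ ⟨n, j⟩ e
      have e' : el ω (sxU m) * el ω (sxD i) = el ω (sxU n) * el ω (sxD j) := congrArg Subtype.val e
      have h0 := sixOrbOK_true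
      simp only [sixOrbOK, Bool.and_eq_true, List.all_eq_true, List.mem_range, beq_iff_eq,
        decide_eq_true_eq] at h0
      obtain ⟨⟨⟨⟨⟨hlen, hnd⟩, -⟩, -⟩, -⟩, hpt⟩ := h0
      have gm := (sxU_spec (F := F) hω m m.isLt).1
      have gn := (sxU_spec (F := F) hω n n.isLt).1
      have hp : pt hω (el ω (sxU m)) = pt hω (el ω (sxU n)) := by
        rw [pt_eq_iff]
        have : (el ω (sxU m))⁻¹ * el ω (sxU n) = el ω (sxD i) * (el ω (sxD j))⁻¹ := by
          rw [eq_mul_inv_iff_mul_eq, mul_assoc, ← e', inv_mul_cancel_left]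
        rw [this]
        exact mul_mem (sxD_spec hω _ i.isLt).2.2 (inv_mem (sxD_spec hω _ j.isLt).2.2)
      have hc : sixPt.getD m 0 = sixPt.getD n 0 := by
        rw [← hpt m m.isLt, ← hpt n n.isLt, ← oCode_pt hω gm, ← oCode_pt hω gn, hp]
      have hmn : m = n := by
        rw [List.getD_eq_getElem _ _ (by rw [hlen]; exact m.isLt),
          List.getD_eq_getElem _ _ (by rw [hlen]; exact n.isLt)] at hc
        exact Fin.ext ((List.Nodup.getElem_inj_iff hnd).mp hc)
      subst hmn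
      rw [mul_right_inj] at e'
      have hs := sixStabOK_true
      simp only [sixStabOK, Bool.and_eq_true, List.all_eq_true, List.mem_range, Bool.not_eq_true'] at hs
      have gi := (sxD_spec (F := F) hω i i.isLt).1
      have gj := (sxD_spec (F := F) hω j j.isLt).1
      rcases lt_trichotomy i.val j.val with h' | h' | h'
      · exact absurd e'.symm (el_ne_of_peq hF hω gj gi (hs.2 j j.isLt i h'))
      · rw [Fin.ext h']
      · exact absurd e' (el_ne_of_peq hF hω gi gj (hs.2 i i.isLt j h'))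
    · rintro ⟨x, hx⟩
      obtain ⟨n, hn, i, hi, e⟩ := mem_LJ hF hω hx
      exact ⟨(⟨n, hn⟩, ⟨i, hi⟩), Subtype.ext e.symm⟩
  rw [← Nat.card_congr (Equiv.ofBijective _ hb), Nat.card_prod, Nat.card_fin, Nat.card_fin]

theorem permutation_realization :
    ∃ H : Subgroup (Equiv.Perm (Fin 6156)), Cfsg.IsJ3 H ∧ MulAction.IsPretransitive H (Fin 6156) ∧
      Nat.card (MulAction.stabilizer H (0 : Fin 6156)) = 8160 := by
  obtain ⟨K, i1, i2, w, hF, hω⟩ := exists_field_four
  haveI := charTwo_of_card hF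
  haveI : Finite (J3 K w) := finite_J3 hF hω
  haveI := simple_J3 hF hω
  set L := LJ w
  have hQ : Nat.card (J3 K w ⧸ L) = 6156 := by
    have := Subgroup.card_eq_card_quotient_mul_card_subgroup L
    rw [card_J3 hF hω, card_LJ hF hω] at this
    omega
  obtain ⟨eq'⟩ : Nonempty (J3 K w ⧸ L ≃ Fin 6156) := ⟨Finite.equivFinOfCardEq hQ⟩
  let φ : J3 K w →* Equiv.Perm (Fin 6156) :=
    eq'.permCongrHom.toMonoidHom.comp (MulAction.toPermHom (J3 K w) (J3 K w ⧸ L))
  have happ : ∀ (g : J3 K w) (i : Fin 6156), φ g i = eq' (g • eq'.symm i) := fun g i => rfl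
  have hinj : Function.Injective φ := by
    rw [← MonoidHom.ker_eq_bot_iff]
    refine ((MonoidHom.normal_ker φ).eq_bot_or_eq_top).resolve_right fun h => ?_
    have htriv : ∀ g : J3 K w, g ∈ L := fun g => by
      have h1 : φ g = 1 := MonoidHom.mem_ker.mp (h ▸ Subgroup.mem_top g)
      have h2 := happ g (eq' (QuotientGroup.mk 1))
      rw [h1, Equiv.Perm.one_apply, Equiv.symm_apply_apply] at h2
      have h3 := eq'.injective h2
      rw [MulAction.Quotient.smul_mk, smul_eq_mul, mul_one, QuotientGroup.eq] at h3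
      simpa using h3
    have := card_LJ (F := K) hF hω
    rw [show LJ w = ⊤ from (Subgroup.eq_top_iff' _).mpr htriv, Subgroup.card_top, card_J3 hF hω] at this
    norm_num at this
  let ψ : J3 K w ≃* φ.range := MonoidHom.ofInjective hinj
  have hcard : Nat.card φ.range = 50232960 := by rw [← Nat.card_congr ψ.toEquiv, card_J3 hF hω]
  haveI htr : MulAction.IsPretransitive φ.range (Fin 6156) := by
    refine ⟨fun a b => ?_⟩
    obtain ⟨g, hg⟩ := MulAction.exists_smul_eq (J3 K w) (eq'.symm a) (eq'.symm b)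
    refine ⟨⟨φ g, g, rfl⟩, ?_⟩
    show φ g a = b
    rw [happ, hg, Equiv.apply_symm_apply]
  refine ⟨φ.range, ⟨ψ.symm.isSimpleGroup, hcard⟩, htr, ?_⟩
  have h2 := Subgroup.card_mul_index (MulAction.stabilizer φ.range (0 : Fin 6156))
  rw [MulAction.index_stabilizer_of_transitive, Nat.card_fin, hcard] at h2
  omega

end CfsgLib.J3
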