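import Cfsg.Agent.Lib.J3.MultDefs
import Cfsg.Agent.Lib.J3.CentData

/-!
The multiplication of a Sylow 2-subgroup of the third Janko group on indices.
-/

set_option autoImplicit false

namespace CfsgLib.J3

/-- index of a generator -/
def sIdx (j : ℕ) : ℕ := sylTab.tab j 0

/-- product of indices, following the tree of the first -/
def sMulF : ℕ → ℕ → ℕ → ℕ
  | 0, _, b => b
  | f + 1, a, b =>
    if a == 0 then b else
      sylTab.tab (sylTree.getD (a - 1) (0, 0)).1 (sMulF f (sylTree.getD (a - 1) (0, 0)).2 b)

/-- product of indices -/
def sMul (a b : ℕ) : ℕ := sMulF a a b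

/-- the two indices commute -/
def sComm (a b : ℕ) : Bool := sMul a b == sMul b a

/-- the relators hold -/
def sylWordsOne : Bool :=
  sylWords.all fun w => w.all (fun j => decide (j < 3)) && peq (sW w) idM

/-- the centre of the Sylow subgroup -/
def centerOK : Bool :=
  ((List.range 128).all fun t =>
    t == 0 || t == 115 || (List.range 3).any fun j => !sComm t (sIdx j)) &&
  (List.range 3).all fun j => sComm 115 (sIdx j)

/-- a normal subgroup of order 32 containing its centraliser -/
def qGroupOK : Bool :=
  qIdx.length == 32 && decide qIdx.Nodup && qIdx.contains 0 && qIdx.contains 115 &&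
  (qIdx.all fun t => decide (t < 128)) &&
  (qIdx.all fun a => qIdx.all fun b => qIdx.contains (sMul a b)) &&
  (qIdx.all fun a => qIdx.any fun b => sMul a b == 0) &&
  ((List.range 3).all fun j => qIdx.all fun q => qIdx.contains (sMul (sIdx j) (sMul q (sIdx j)))) &&
  (List.range 128).all fun t => qIdx.contains t || qIdx.any fun u => !sComm t u

/-- it is extraspecial of rank two -/
def qExtraOK : Bool :=
  (qIdx.any fun a => qIdx.any fun b => !sComm a b) &&
  qIdx.all fun a =>
    (sMul a a == 0 || sMul a a == 115) &&
    (a == 0 || a == 115 || qIdx.any fun u => !sComm a u) &&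
    (qIdx.all fun b => sMul a b == sMul b a || sMul a b == sMul 115 (sMul b a)) &&
    (!(sMul a a == 0) || a == 0 || a == 115 ||
      decide ((qIdx.filter fun b => sMul b b == 0 && sComm a b).length ≤ 4))

theorem sylWordsOne_true : sylWordsOne = true := by decide +kernel
theorem centerOK_true : centerOK = true := by decide +kernel
theorem qGroupOK_true : qGroupOK = true := by decide +kernel
theorem qExtraOK_true : qExtraOK = true := by decide +kernel

end CfsgLib.J3
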