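import Cfsg.Prelude.Def_Transfer
import Cfsg.Agent.Lib.J3.MultTwo
import Cfsg.Agent.Lib.J3.SylDefs

/-!
A Sylow 2-subgroup of the third Janko group.
-/

set_option autoImplicit false
set_option maxRecDepth 4000
set_option linter.unusedSectionVars false
set_option linter.unusedVariables false
set_option linter.style.haveILetI false

namespace CfsgLib.J3

open Cfsg.Spor CfsgLib.Schur.InvTable

variable {F : Type*} [Field F] [CharP F 2] [Fintype F] {ω : F}

attribute [local irreducible] el mmul peq sE sG idM dcM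

theorem el_mul_self_of_peq (hω : ω ^ 2 + ω + 1 = 0) {M : List ℕ} (hM : Good ω M)
    (h : peq (mmul M M) idM = true) : el ω M * el ω M = 1 := by
  rw [← el_mul hω hM hM, el_of_peq hω (good_mmul hω hM hM) good_idM h, el_idM]

theorem gS_sq (hω : ω ^ 2 + ω + 1 = 0) (j : ℕ) : gS ω j * gS ω j = 1 := (sG_good hω j).2

theorem prod_sW (hω : ω ^ 2 + ω + 1 = 0) :
    ∀ w : List ℕ, Good ω (sW w) ∧ (w.map (gS ω)).prod = el ω (sW w)
  | [] => by rw [sW]; exact ⟨good_idM, by simp [el_idM]⟩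
  | j :: w => by
    obtain ⟨h1, h2⟩ := prod_sW hω w
    rw [sW]
    exact ⟨good_mmul hω (sG_good hω j).1 h1,
      by rw [List.map_cons, List.prod_cons, h2, el_mul hω (sG_good hω j).1 h1]; rfl⟩

theorem gS_words (hω : ω ^ 2 + ω + 1 = 0) : ∀ w ∈ sylTab.words, (w.map (gS ω)).prod = 1 := by
  intro w hw
  have h := sylWordsOne_true
  simp only [sylWordsOne, Bool.and_eq_true, List.all_eq_true] at h
  obtain ⟨g, e⟩ := prod_sW (F := F) hω w
  rw [e, el_of_peq hω g good_idM (h w hw).2, el_idM]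

/-- a Sylow 2-subgroup -/
noncomputable def SJ (ω : F) : Subgroup (J3 F ω) :=
  Subgroup.closure {e | ∃ j, j < sylTab.k ∧ e = gS ω j}

omit [CharP F 2] in
theorem gS_mem {j : ℕ} (hj : j < 3) : gS ω j ∈ SJ ω := Subgroup.subset_closure ⟨j, hj, rfl⟩

theorem tab_phi (hω : ω ^ 2 + ω + 1 = 0) {j i : ℕ} (hj : j < 3) (hi : i < 128) :
    gS ω j * sylTab.phi (gS ω) i = sylTab.phi (gS ω) (sylTab.tab j i) ∧ sylTab.tab j i < 128 :=
  Tab.mul_phi sylTab_ok (fun j _ => gS_sq hω j) (gS_words hω) hj hi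

theorem sIdx_spec (hω : ω ^ 2 + ω + 1 = 0) {j : ℕ} (hj : j < 3) :
    sylTab.phi (gS ω) (sIdx j) = gS ω j ∧ sIdx j < 128 := by
  obtain ⟨e, h⟩ := tab_phi (F := F) hω hj (show 0 < 128 by norm_num)
  rw [Tab.phi_zero, mul_one] at e
  exact ⟨e.symm, h⟩

theorem tree_spec : ∀ t < 127, (sylTree.getD t (0, 0)).1 < 3 ∧ (sylTree.getD t (0, 0)).2 < t + 1 := by
  have h := sylOK_true
  simp only [sylOK, Bool.and_eq_true, List.all_eq_true, List.mem_range, decide_eq_true_eq] at h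
  exact fun t ht => (h.2 t ht).1

theorem sMulF_spec (hω : ω ^ 2 + ω + 1 = 0) :
    ∀ f a b, a ≤ f → a < 128 → b < 128 →
      sMulF f a b < 128 ∧
        sylTab.phi (gS ω) (sMulF f a b) = sylTab.phi (gS ω) a * sylTab.phi (gS ω) b := by
  intro f
  induction f with
  | zero =>
    intro a b ha _ hb
    obtain rfl : a = 0 := by omega
    rw [sMulF, Tab.phi_zero, one_mul]
    exact ⟨hb, rfl⟩
  | succ f ih =>
    intro a b ha ha' hb
    rw [sMulF]
    rcases a with _ | a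
    · rw [if_pos (by rfl), Tab.phi_zero, one_mul]
      exact ⟨hb, rfl⟩
    · obtain ⟨h3, hlt⟩ := tree_spec a (by omega)
      rw [if_neg (by simp)]
      simp only [Nat.add_sub_cancel]
      obtain ⟨l, e⟩ := ih (sylTree.getD a (0, 0)).2 b (by omega) (by omega) hb
      obtain ⟨e2, l2⟩ := tab_phi (F := F) hω h3 l
      refine ⟨l2, ?_⟩
      rw [← e2, e]
      conv_rhs => rw [Tab.phi, if_pos ⟨Nat.succ_pos a, by simpa [sylTab] using hlt⟩]
      simp [sylTab, mul_assoc]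

theorem sMul_spec (hω : ω ^ 2 + ω + 1 = 0) {a b : ℕ} (ha : a < 128) (hb : b < 128) :
    sMul a b < 128 ∧
      sylTab.phi (gS ω) (sMul a b) = sylTab.phi (gS ω) a * sylTab.phi (gS ω) b :=
  sMulF_spec hω a a b le_rfl ha hb

theorem phi_mem (hω : ω ^ 2 + ω + 1 = 0) : ∀ {t : ℕ}, t < 128 → sylTab.phi (gS ω) t ∈ SJ ω := by
  intro t
  induction t using Nat.strong_induction_on with
  | _ t ih =>
    intro ht
    rcases t with _ | t
    · rw [Tab.phi_zero]; exact one_mem _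
    · obtain ⟨h3, hlt⟩ := tree_spec t (by omega)
      rw [Tab.phi, if_pos ⟨Nat.succ_pos t, by simpa [sylTab] using hlt⟩]
      exact mul_mem (gS_mem (by simpa [sylTab] using h3))
        (ih _ (by simpa [sylTab] using hlt) (show (sylTree.getD t (0, 0)).2 < 128 by omega))

theorem mem_SJ (hω : ω ^ 2 + ω + 1 = 0) {x : J3 F ω} :
    x ∈ SJ ω ↔ ∃ t < 128, x = sylTab.phi (gS ω) t := by
  refine ⟨fun hx => ?_, fun ⟨t, ht, e⟩ => e ▸ phi_mem hω ht⟩
  obtain ⟨i, hi, e⟩ := Tab.exists_eq_phi sylTab_ok (fun j _ => gS_sq hω j) (gS_words hω) hx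
  exact ⟨i, hi, e⟩

theorem finite_J3 (hF : Fintype.card F = 4) (hω : ω ^ 2 + ω + 1 = 0) : Finite (J3 F ω) :=
  Nat.finite_of_card_ne_zero (by rw [card_J3 hF hω]; norm_num)

theorem card_SJ (hF : Fintype.card F = 4) (hω : ω ^ 2 + ω + 1 = 0) : Nat.card (SJ ω) = 128 := by
  have hb : Function.Bijective fun t : Fin 128 => (⟨_, phi_mem hω t.isLt⟩ : SJ ω) := by
    refine ⟨fun a b h => Fin.ext (phi_inj hF hω a b a.isLt b.isLt (congrArg Subtype.val h)), ?_⟩
    rintro ⟨x, hx⟩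
    obtain ⟨t, ht, rfl⟩ := (mem_SJ hω).mp hx
    exact ⟨⟨t, ht⟩, rfl⟩
  rw [← Nat.card_congr (Equiv.ofBijective _ hb), Nat.card_fin]

/-- the subgroup as a Sylow subgroup -/
theorem exists_sylow (hF : Fintype.card F = 4) (hω : ω ^ 2 + ω + 1 = 0) :
    ∃ P : Sylow 2 (J3 F ω), (P : Subgroup (J3 F ω)) = SJ ω := by
  haveI := Fact.mk Nat.prime_two
  haveI := finite_J3 hF hω
  refine ⟨Sylow.ofCard (SJ ω) ?_, rfl⟩
  rw [card_SJ hF hω, card_J3 hF hω,
    show (50232960 : ℕ) = 2 ^ 7 * 392445 by norm_num,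
    Nat.factorization_mul_apply_of_coprime (by norm_num),
    Nat.Prime.factorization_pow Nat.prime_two, Finsupp.single_eq_same,
    Nat.factorization_eq_zero_of_not_dvd (by norm_num)]
  norm_num

/-- the central involution of the Sylow subgroup -/
noncomputable def zJ (ω : F) : J3 F ω := sylTab.phi (gS ω) 115

theorem zJ_mem (hω : ω ^ 2 + ω + 1 = 0) : zJ ω ∈ SJ ω := phi_mem hω (by norm_num)

theorem zJ_eq (hω : ω ^ 2 + ω + 1 = 0) : Good ω (sE 115) ∧ zJ ω = el ω (sE 115) := sE_good hω 115 (by norm_num)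

theorem zJ_ne_one (hF : Fintype.card F = 4) (hω : ω ^ 2 + ω + 1 = 0) : zJ ω ≠ 1 := by
  intro h
  rw [zJ, ← Tab.phi_zero sylTab (gS ω)] at h
  exact absurd (phi_inj hF hω _ _ (by norm_num) (by norm_num) h) (by norm_num)

theorem sComm_iff (hF : Fintype.card F = 4) (hω : ω ^ 2 + ω + 1 = 0) {a b : ℕ} (ha : a < 128) (hb : b < 128) :
    sComm a b = true ↔ sylTab.phi (gS ω) a * sylTab.phi (gS ω) b =
      sylTab.phi (gS ω) b * sylTab.phi (gS ω) a := by
  obtain ⟨l1, e1⟩ := sMul_spec (F := F) hω ha hb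
  obtain ⟨l2, e2⟩ := sMul_spec (F := F) hω hb ha
  rw [sComm, beq_iff_eq, ← e1, ← e2]
  exact ⟨fun e => by rw [e], phi_inj hF hω _ _ l1 l2⟩

theorem zJ_comm (hF : Fintype.card F = 4) (hω : ω ^ 2 + ω + 1 = 0) {x : J3 F ω} (hx : x ∈ SJ ω) :
    zJ ω * x = x * zJ ω := by
  induction hx using Subgroup.closure_induction with
  | mem x hx =>
    obtain ⟨j, hj, rfl⟩ := hx
    change j < 3 at hj
    obtain ⟨e, hlt⟩ := sIdx_spec (F := F) hω hj
    have h := centerOK_true
    simp only [centerOK, Bool.and_eq_true, List.all_eq_true, List.mem_range] at h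
    rw [← e]
    exact (sComm_iff hF hω (by norm_num) hlt).mp (h.2 j hj)
  | one => simp
  | mul x y _ _ hx hy => rw [← mul_assoc, hx, mul_assoc, hy, mul_assoc]
  | inv x _ hx => exact (Commute.inv_right (show Commute (zJ ω) x from hx)).eq

theorem center_cases (hF : Fintype.card F = 4) (hω : ω ^ 2 + ω + 1 = 0) {x : J3 F ω} (hx : x ∈ SJ ω)
    (hc : ∀ j < 3, x * gS ω j = gS ω j * x) : x = 1 ∨ x = zJ ω := by
  obtain ⟨t, ht, rfl⟩ := (mem_SJ hω).mp hx
  have h := centerOK_true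
  simp only [centerOK, Bool.and_eq_true, List.all_eq_true, List.mem_range, Bool.or_eq_true,
    List.any_eq_true, Bool.not_eq_true', beq_iff_eq] at h
  rcases h.1 t ht with (rfl | rfl) | ⟨j, hj, hne⟩
  · exact Or.inl (Tab.phi_zero _ _)
  · exact Or.inr rfl
  · obtain ⟨e, hlt⟩ := sIdx_spec (F := F) hω hj
    have h1 := hc j hj
    rw [← e] at h1
    rw [(sComm_iff hF hω ht hlt).mpr h1] at hne
    exact Bool.noConfusion hne

/-- involutions of the Sylow subgroup are conjugate to the first generator -/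
theorem isConj_gS (hF : Fintype.card F = 4) (hω : ω ^ 2 + ω + 1 = 0) {x : J3 F ω} (hx : x ∈ SJ ω)
    (h2 : x * x = 1) (h1 : x ≠ 1) : IsConj x (gS ω 0) := by
  obtain ⟨t, ht, rfl⟩ := (mem_SJ hω).mp hx
  have h := sylInvOK_true
  simp only [sylInvOK, Bool.and_eq_true, List.all_eq_true (l := List.range 128), List.mem_range,
    Bool.or_eq_true, beq_iff_eq, Bool.not_eq_true'] at h
  obtain ⟨g, e⟩ := sE_good (F := F) hω t ht
  rcases h.2 t ht with (rfl | hl) | hsq
  · exact absurd (Tab.phi_zero _ _) h1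
  · obtain ⟨-, -, c, hc⟩ := inv_conj (F := F) hω hl
    rw [e]
    exact isConj_iff.mpr ⟨c, mul_inv_eq_iff_eq_mul.mpr hc⟩
  · refine absurd ?_ (el_ne_of_peq hF hω (good_mmul hω g g) good_idM hsq)
    rw [el_mul hω g g, ← e, h2, el_idM]

theorem isConj_zJ (hF : Fintype.card F = 4) (hω : ω ^ 2 + ω + 1 = 0) {x : J3 F ω}
    (hx : orderOf x = 2) : IsConj x (zJ ω) := by
  haveI := Fact.mk Nat.prime_two
  haveI := finite_J3 hF hω
  obtain ⟨P, hP⟩ := exists_sylow (F := F) hF hω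
  have hp : IsPGroup 2 (Subgroup.zpowers x) :=
    IsPGroup.of_card (n := 1) (by rw [Nat.card_zpowers, hx, pow_one])
  obtain ⟨Q, hQ⟩ := hp.exists_le_sylow
  obtain ⟨g, hg⟩ := MulAction.exists_smul_eq (J3 F ω) Q P
  have hm : g * x * g⁻¹ ∈ SJ ω := by
    rw [← hP, ← hg]
    exact ⟨x, hQ (Subgroup.mem_zpowers x), rfl⟩
  have hx2 : x * x = 1 := by rw [← sq, ← hx, pow_orderOf_eq_one]
  have hx1 : x ≠ 1 := fun e => by rw [e, orderOf_one] at hx; exact absurd hx (by norm_num)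
  have h1 := isConj_gS hF hω hm (by rw [show g * x * g⁻¹ * (g * x * g⁻¹) = g * (x * x) * g⁻¹ by group, hx2]; group)
    (fun e => hx1 (conj_eq_one_iff.mp e))
  have hz : zJ ω * zJ ω = 1 := by
    have hsq : sMul 115 115 = 0 := by decide +kernel
    obtain ⟨-, e⟩ := sMul_spec (F := F) hω (show (115 : ℕ) < 128 by norm_num) (show (115 : ℕ) < 128 by norm_num)
    rw [hsq, Tab.phi_zero] at e
    exact e.symm
  have h2 := isConj_gS hF hω (zJ_mem hω) hz (zJ_ne_one hF hω)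
  exact ((isConj_iff.mpr ⟨g, rfl⟩).trans h1).trans h2.symm

end CfsgLib.J3
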